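import Groth.Agent.DimOneAmple.Geometry
import Groth.Agent.SchTop.Closed

/-!
# Noetherian separated schemes of dimension at most one: dense affine opens and ampleness
-/

set_option autoImplicit false
set_option backward.isDefEq.respectTransparency false
set_option backward.isDefEq.respectTransparency.types false
set_option linter.style.haveILetI false

universe u

open CategoryTheory AlgebraicGeometry TopologicalSpace

namespace Groth.Agent.DimOneAmple

variable {X : Scheme.{u}}

theorem isClosed_of_not_generic (hdim : topologicalKrullDim X ≤ 1) (x : X)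
    (hx : closure {x} ∉ irreducibleComponents X) : IsClosed ({x} : Set X) := by
  refine closure_subset_iff_isClosed.1 fun y hy => ?_
  by_contra hne
  obtain ⟨Z, hZ, hxZ⟩ := exists_mem_irreducibleComponents_subset_of_isIrreducible (closure {x})
    isIrreducible_singleton.closure
  let a : IrreducibleCloseds X := ⟨closure {y}, isIrreducible_singleton.closure, isClosed_closure⟩
  let b : IrreducibleCloseds X := ⟨closure {x}, isIrreducible_singleton.closure, isClosed_closure⟩
  let c : IrreducibleCloseds X := ⟨Z, hZ.1, isClosed_of_mem_irreducibleComponents Z hZ⟩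
  have hab : a < b := by
    refine lt_of_le_of_ne (closure_minimal (Set.singleton_subset_iff.2 hy) isClosed_closure) fun h => ?_
    have : closure ({y} : Set X) = closure {x} := congrArg (fun s : IrreducibleCloseds X => (s : Set X)) h
    exact hne ((inseparable_iff_closure_eq.2 this).eq)
  have hbc : b < c := by
    refine lt_of_le_of_ne hxZ fun h => hx ?_
    have : closure ({x} : Set X) = Z := congrArg (fun s : IrreducibleCloseds X => (s : Set X)) h
    rwa [this]
  have h2 := Order.LTSeries.length_le_krullDim ((((RelSeries.singleton _ a).snoc b hab).snoc c (by simpa using hbc)) :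
    LTSeries (IrreducibleCloseds X))
  have h3 := h2.trans hdim
  simp at h3

theorem finite_of_isClosed [AlgebraicGeometry.IsNoetherian X] (hdim : topologicalKrullDim X ≤ 1) {C : Set X}
    (hC : IsClosed C) (hgen : ∀ x ∈ C, closure {x} ∉ irreducibleComponents X) : C.Finite := by
  obtain ⟨S, hSf, hSc, hSi, rfl⟩ := NoetherianSpace.exists_finite_set_isClosed_irreducible hC
  refine hSf.sUnion fun Z hZ => ?_
  obtain ⟨ξ, hξ⟩ := QuasiSober.sober (hSi Z hZ) (hSc Z hZ)
  have hcl := isClosed_of_not_generic hdim ξ (hgen ξ ⟨Z, hZ, hξ.mem⟩)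
  have : Z = {ξ} := by rw [← hξ.def, hcl.closure_eq]
  rw [this]
  exact Set.finite_singleton ξ

theorem finite_generic [AlgebraicGeometry.IsNoetherian X] : {x : X | closure {x} ∈ irreducibleComponents X}.Finite :=
  NoetherianSpace.finite_irreducibleComponents.preimage fun _ _ _ _ h => (inseparable_iff_closure_eq.2 h).eq

variable [AlgebraicGeometry.IsNoetherian X] [X.IsSeparated]

theorem exists_affineOpen_of_finite (hdim : topologicalKrullDim X ≤ 1) {s : Set X} (hs : s.Finite) :
    ∃ U : X.Opens, IsAffineOpen U ∧ ∀ x ∈ s, x ∈ U := by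
  obtain ⟨U, hU, h⟩ := CurveFin.exists_affineOpen_of_finite X (fun _ _ => NoetherianSpace.finite_irreducibleComponents)
    hs.toFinset fun x _ => ⟨inferInstance, (SchTop.ringKrullDim_stalk_le x).trans hdim⟩
  exact ⟨U, hU, fun x hx => h x (hs.mem_toFinset.2 hx)⟩

/-- A dense affine open with finite complement containing given points. -/
theorem exists_dense_affineOpen (hdim : topologicalKrullDim X ≤ 1) {s : Set X} (hs : s.Finite) :
    ∃ U : X.Opens, IsAffineOpen U ∧ ((U : Set X)ᶜ).Finite ∧ ∀ x ∈ s, x ∈ U := by
  obtain ⟨U, hU, h⟩ := exists_affineOpen_of_finite hdim (hs.union finite_generic)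
  exact ⟨U, hU, finite_of_isClosed hdim U.2.isClosed_compl fun x hx hgen => hx (h x (Or.inr hgen)),
    fun x hx => h x (Or.inl hx)⟩

/-- A Noetherian separated scheme of dimension at most one has an ample invertible module. -/
theorem exists_isAmple (hdim : topologicalKrullDim X ≤ 1) : ∃ L : X.Modules, CohB1.IsAmple L := by
  obtain ⟨U, hU, hUf, -⟩ := exists_dense_affineOpen hdim (Set.finite_empty (α := X))
  obtain ⟨V, hV, hVf, hUV⟩ := exists_dense_affineOpen hdim hUf
  obtain ⟨L, a, b, hL, ha, hb⟩ := exists_sections hdim hU hV hUf hUV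
  obtain ⟨M, c, d, hM, hc, hd⟩ := exists_sections hdim hV hU hVf fun x hx => by
    by_contra h
    exact hx (hUV x h)
  exact ⟨_, isAmple_of_sections hU hV hUV hL hM ha hb hc hd⟩

end Groth.Agent.DimOneAmple
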