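import Groth.Agent.DimOneAmple.Exists
import Groth.Agent.S11556
import Groth.Agent.VAmpleX.Eventually
import Groth.Agent.Lib.AmpleEmbed
import Groth.Agent.AlgSpLib.ClosedImmDesc
import Groth.Agent.VarDim.Fibre

/-!
# Completion of a one-dimensional scheme over a field inside a projective space
-/

set_option autoImplicit false
set_option backward.isDefEq.respectTransparency false
set_option backward.isDefEq.respectTransparency.types false
set_option linter.style.haveILetI false

universe u

open CategoryTheory CategoryTheory.Limits AlgebraicGeometry TopologicalSpace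

namespace Groth.Agent.DimOneAmple

variable {k : Type u} [Field k]

theorem closed_of_not_mem_range {X Y : Scheme.{u}} (q : Y ⟶ Spec (CommRingCat.of k)) [LocallyOfFiniteType q]
    (j : X ⟶ Y) [LocallyOfFiniteType (j ≫ q)] [CompactSpace X] (hdense : Dense (Set.range j))
    (hdim : topologicalKrullDim X ≤ 1) {y : Y} (hy : y ∉ Set.range j) : IsClosed ({y} : Set Y) := by
  obtain ⟨η, hη, hmax⟩ := VarDim.exists_maximal_generalization q y
  obtain ⟨x, hx⟩ := VarDim.mem_range_of_maximal (j ≫ q) j (by rw [hdense.closure_eq]; trivial) hmax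
  haveI : LocallyOfFiniteType j := locallyOfFiniteType_of_comp j q
  have h1 : VarDim.deg q η ≤ 1 := by
    rw [← hx]
    refine (VarDim.deg_map_le j q rfl x).trans ?_
    have h := le_iSup (fun z : X => ((VarDim.deg (j ≫ q) z : ℕ∞) : WithBot ℕ∞)) x
    rw [← VarDim.topologicalKrullDim_eq_iSup_deg (j ≫ q)] at h
    exact_mod_cast h.trans hdim
  obtain ⟨c, hyc, hc⟩ := VarDim.exists_closed_specialization q y
  have hne : η ≠ y := fun h => hy ⟨x, hx.trans h⟩
  have h2 : VarDim.deg q y < VarDim.deg q η :=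
    lt_of_not_ge fun h => hne (VarDim.eq_of_specializes_of_deg_le q hη h)
  have h3 : y = c := VarDim.eq_of_specializes_of_deg_le q hyc (by omega)
  rwa [h3]

theorem finite_of_forall_isClosed {Y : Scheme.{u}} [AlgebraicGeometry.IsNoetherian Y] {C : Set Y} (hC : IsClosed C)
    (h : ∀ y ∈ C, IsClosed ({y} : Set Y)) : C.Finite := by
  obtain ⟨S, hSf, hSc, hSi, rfl⟩ := NoetherianSpace.exists_finite_set_isClosed_irreducible hC
  refine hSf.sUnion fun Z hZ => ?_
  obtain ⟨ξ, hξ⟩ := QuasiSober.sober (hSi Z hZ) (hSc Z hZ)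
  rw [show Z = {ξ} by rw [← hξ.def, (h ξ ⟨Z, hZ, hξ.mem⟩).closure_eq]]
  exact Set.finite_singleton ξ

/-- A separated scheme of finite type over a field and of dimension at most one is schematically dense in a
projective scheme, with finite complement of closed points. -/
theorem exists_completion {X : Scheme.{u}} (f : X ⟶ Spec (CommRingCat.of k)) [IsSeparated f] [LocallyOfFiniteType f]
    [QuasiCompact f] (hdim : topologicalKrullDim X ≤ 1) :
    ∃ (d : ℕ) (Y : Scheme.{u}) (c : Y ⟶ CohB1.ProjSpace d k) (j : X ⟶ Y), IsClosedImmersion c ∧ IsOpenImmersion j ∧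
      j ≫ c ≫ CohB1.ProjSpace.toSpec d k = f ∧ Dense (Set.range j.base) ∧ IsSchemeTheoreticallyDominant j ∧
      (Set.range j.base)ᶜ.Finite ∧ ∀ y ∈ (Set.range j.base)ᶜ, IsClosed ({y} : Set Y) := by
  haveI : IsLocallyNoetherian X := LocallyOfFiniteType.isLocallyNoetherian f
  haveI : CompactSpace X := QuasiCompact.compactSpace_of_compactSpace f
  haveI : AlgebraicGeometry.IsNoetherian X := {}
  haveI : X.IsSeparated := ⟨by rw [← terminal.comp_from f]; infer_instance⟩
  obtain ⟨L, hL⟩ := exists_isAmple hdim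
  obtain ⟨n₀, hn₀⟩ := VAmpleX.eventually_veryAmple f hL (L' := Coh.structureModule X) InvX.isInvertible_structureModule
  obtain ⟨n, i, hi, hif, -⟩ := hn₀ n₀ le_rfl
  let pr : CohB1.ProjSpaceOver n (Spec (CommRingCat.of k)) ⟶ Spec (CommRingCat.of k) :=
    pullback.snd (CohB1.ProjSpace.toSpec n (ULift.{u} ℤ)) (specULiftZIsTerminal.from (Spec (CommRingCat.of k)))
  haveI : IsProper (CohB1.ProjSpace.toSpec n (ULift.{u} ℤ)) := PnCoh.Chow.isProper_toSpec n _
  haveI : IsProper pr := MorphismProperty.pullback_snd _ _ inferInstance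
  haveI : IsImmersion i := hi
  haveI : CompactSpace ↥(CohB1.ProjSpaceOver n (Spec (CommRingCat.of k))) := QuasiCompact.compactSpace_of_compactSpace pr
  haveI : IsLocallyNoetherian (CohB1.ProjSpaceOver n (Spec (CommRingCat.of k))) := LocallyOfFiniteType.isLocallyNoetherian pr
  haveI : QuasiCompact i := by
    haveI : QuasiCompact (i ≫ pr) := by rw [show i ≫ pr = f from hif]; infer_instance
    exact QuasiCompact.of_comp i pr
  obtain ⟨M, hM⟩ := S11556.Aux.exists_ample_projSpaceOver k n
  let Y := i.ker.subscheme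
  let ι : Y ⟶ CohB1.ProjSpaceOver n (Spec (CommRingCat.of k)) := i.ker.subschemeι
  haveI : CompactSpace Y := QuasiCompact.compactSpace_of_compactSpace ι
  have hY := S11556.Aux.isAmple_pullback_of_isAffineHom ι hM
  haveI : IsProper (ι ≫ pr) := inferInstance
  obtain ⟨d, c, hc, hcf⟩ := AmpleEmbed.exists_closedImmersion (ι ≫ pr) hY
  let j : X ⟶ Y := i.toImage
  have hj : j ≫ ι = i := i.toImage_imageι
  haveI : IsImmersion (j ≫ ι) := by rw [hj]; exact hi
  haveI : IsImmersion j := IsImmersion.of_comp j ι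
  haveI : QuasiCompact j := inferInstanceAs (QuasiCompact i.toImage)
  haveI : IsDominant j := inferInstanceAs (IsDominant i.toImage)
  have hker : j.ker = ⊥ := by
    refine Scheme.IdealSheafData.ext_of_iSup_eq_top
      (fun U : (CohB1.ProjSpaceOver n (Spec (CommRingCat.of k))).affineOpens => ⟨ι ⁻¹ᵁ U.1, U.2.preimage ι⟩) ?_ fun U => ?_
    · exact eq_top_iff.2 fun y _ => by
        obtain ⟨V, hV, hyV, -⟩ := exists_isAffineOpen_mem_and_subset (x := ι y) (U := ⊤) trivial
        exact Opens.mem_iSup.2 ⟨⟨V, hV⟩, hyV⟩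
    · rw [Scheme.Hom.ker_apply, Scheme.IdealSheafData.ideal_bot]
      exact (RingHom.injective_iff_ker_eq_bot _).1 (i.toImage_app_injective U)
  haveI : IsOpenImmersion j := AlgSpLib.isOpenImmersion_of_ker_eq_bot j hker
  have hjq : j ≫ ι ≫ pr = f := by rw [← Category.assoc, hj]; exact hif
  haveI : LocallyOfFiniteType (j ≫ ι ≫ pr) := by rw [hjq]; infer_instance
  haveI : IsLocallyNoetherian Y := LocallyOfFiniteType.isLocallyNoetherian (ι ≫ pr)
  haveI : AlgebraicGeometry.IsNoetherian Y := {}
  have hdense : Dense (Set.range j.base) := j.denseRange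
  have hcl : ∀ y ∈ (Set.range j.base)ᶜ, IsClosed ({y} : Set Y) := fun y hy =>
    closed_of_not_mem_range (ι ≫ pr) j hdense hdim hy
  exact ⟨d, Y, c, j, hc, inferInstance, by rw [hcf, hjq], hdense, ⟨hker⟩,
    finite_of_forall_isClosed j.isOpenEmbedding.isOpen_range.isClosed_compl hcl, hcl⟩

end Groth.Agent.DimOneAmple
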