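import Mathlib

/-!
# One-dimensional local rings integrally closed in their punctured spectrum
-/

set_option autoImplicit false
set_option linter.style.haveILetI false

universe u

open Polynomial

namespace Groth.Agent.DimOneAmple

/-- A reduced Noetherian local ring of dimension at most one, integrally closed in the ring of functions on
the punctured spectrum, is a discrete valuation ring. -/
theorem isDVR_of_integrallyClosed_away (O : Type u) [CommRing O] [IsLocalRing O] [IsNoetherianRing O]
    [IsReduced O] [Ring.KrullDimLE 1 O] (f : O) (hf : f ∈ IsLocalRing.maximalIdeal O)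
    (hmin : ∀ p ∈ minimalPrimes O, f ∉ p)
    (hint : ∀ z : Localization.Away f, IsIntegral O z → ∃ o : O, algebraMap O _ o = z) :
    ∃ _ : IsDomain O, IsDiscreteValuationRing O := by
  classical
  let L := Localization.Away f
  have hnz : ∀ x : O, f * x = 0 → x = 0 := fun x hx => by
    have h : x ∈ sInf (minimalPrimes O) := Submodule.mem_sInf.mpr fun p hp =>
      (hp.1.1.mem_or_mem (show f * x ∈ p by rw [hx]; exact zero_mem p)).resolve_left (hmin p hp)
    have h1 : x ∈ (⊥ : Ideal O).radical := by rwa [← Ideal.sInf_minimalPrimes]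
    exact IsReduced.eq_zero _ h1
  have hinj : Function.Injective (algebraMap O L) := (injective_iff_map_eq_zero _).2 fun x hx => by
    obtain ⟨⟨_, n, rfl⟩, hn⟩ := (IsLocalization.map_eq_zero_iff (Submonoid.powers f) L x).1 hx
    change f ^ n * x = 0 at hn
    induction n generalizing x with
    | zero => simpa using hn
    | succ n ih => exact hnz x (ih (f * x) (by rw [map_mul, hx, mul_zero]) (by rw [← mul_assoc, ← pow_succ]; exact hn))
  haveI : Nontrivial L := hinj.nontrivial
  haveI : IsNoetherianRing L := IsLocalization.isNoetherianRing (Submonoid.powers f) L inferInstance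
  haveI : IsReduced L := inferInstanceAs (IsReduced (Localization (Submonoid.powers f)))
  haveI : Ring.KrullDimLE 0 L := Ring.krullDimLE_zero_iff.2 fun P hP => by
    obtain ⟨Q, hQ, hPQ⟩ := Ideal.exists_le_maximal P hP.ne_top
    by_contra hne
    have hlt : P < Q := lt_of_le_of_ne hPQ fun e => hne (e ▸ hQ)
    have hfQ : f ∉ Q.comap (algebraMap O L) := fun h =>
      hQ.ne_top (Ideal.eq_top_of_isUnit_mem _ h (IsLocalization.Away.algebraMap_isUnit f))
    haveI := hQ.isPrime
    have h2 : P.comap (algebraMap O L) < Q.comap (algebraMap O L) := by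
      refine lt_of_le_of_ne (Ideal.comap_mono hPQ) fun e => hlt.ne ?_
      rw [← IsLocalization.map_under (Submonoid.powers f) L P, ← IsLocalization.map_under (Submonoid.powers f) L Q]
      exact congrArg (Ideal.map (algebraMap O L)) e
    rcases Ring.krullDimLE_one_iff.1 ‹Ring.KrullDimLE 1 O› (Q.comap (algebraMap O L)) inferInstance with h | h
    · exact h2.not_ge (h.2 ⟨inferInstance, bot_le⟩ h2.le)
    · rw [IsLocalRing.eq_maximalIdeal h] at hfQ
      exact hfQ hf
  haveI : IsArtinianRing L := isArtinianRing_iff_isNoetherianRing_krullDimLE_zero.2 ⟨inferInstance, inferInstance⟩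
  have hfield : ∀ a : L, a ≠ 0 → IsUnit a := fun a ha => by
    obtain ⟨n, y, hy⟩ := IsArtinian.exists_pow_succ_smul_dvd a (1 : L)
    simp only [smul_eq_mul, mul_one, pow_succ] at hy
    have hstep : ∀ j : ℕ, a ^ n = a ^ n * (a * y) ^ j := by
      intro j
      induction j with
      | zero => rw [pow_zero, mul_one]
      | succ j ih => rw [pow_succ, ← mul_assoc, ← ih, ← mul_assoc, hy]
    let e := (a * y) ^ n
    have he : IsIdempotentElem e := by
      show (a * y) ^ n * (a * y) ^ n = (a * y) ^ n
      calc (a * y) ^ n * (a * y) ^ n = y ^ n * (a ^ n * (a * y) ^ n) := by ring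
        _ = y ^ n * a ^ n := by rw [← hstep n]
        _ = (a * y) ^ n := by ring
    obtain ⟨o, ho⟩ := hint e ⟨X ^ 2 - X, monic_X_pow_sub (by simp), by simp [sq, he.eq]⟩
    have ho' : IsIdempotentElem o := hinj (by rw [map_mul, ho, he.eq])
    have h01 : o = 0 ∨ o = 1 := by
      rcases IsLocalRing.isUnit_or_isUnit_one_sub_self o with h | h
      · exact Or.inr (h.mul_left_cancel (by rw [mul_one]; exact ho'.eq))
      · exact Or.inl (h.mul_left_cancel (by rw [sub_mul, one_mul, ho'.eq, sub_self, mul_zero]))
    rcases h01 with h | h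
    · refine absurd (IsReduced.eq_zero a ⟨n, ?_⟩) ha
      rw [hstep n]
      show a ^ n * e = 0
      rw [← ho, h, map_zero, mul_zero]
    · rcases Nat.eq_zero_or_pos n with hn | hn
      · subst hn
        rw [pow_zero, one_mul] at hy
        exact IsUnit.of_mul_eq_one y hy
      · refine isUnit_of_mul_isUnit_left (y := y) ((isUnit_pow_iff hn.ne').1 ?_)
        show IsUnit e
        rw [← ho, h, map_one]
        exact isUnit_one
  letI : Field L := IsField.toField ⟨exists_pair_ne L, mul_comm, fun ha => (hfield _ ha).exists_right_inv⟩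
  haveI : IsDomain O := Function.Injective.isDomain (algebraMap O L) hinj
  refine ⟨‹_›, ?_⟩
  have hf0 : f ≠ 0 := fun h => by
    obtain ⟨p, hp⟩ := Ideal.nonempty_minimalPrimes (I := (⊥ : Ideal O)) (by simp)
    exact hmin p hp (h ▸ zero_mem p)
  haveI : IsFractionRing O L := IsFractionRing.of_field O L fun z => by
    obtain ⟨⟨a, s⟩, h⟩ := IsLocalization.surj (Submonoid.powers f) z
    refine ⟨a, s.1, ?_⟩
    rw [eq_div_iff (IsLocalization.map_units L s).ne_zero]
    exact h
  have hnf : ¬ IsField O := fun h => hf0 (by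
    have hm := (IsLocalRing.isField_iff_maximalIdeal_eq).1 h
    rw [hm] at hf
    exact Ideal.mem_bot.1 hf)
  haveI : IsIntegrallyClosed O := (isIntegrallyClosed_iff L).2 fun {z} hz => hint z hz
  have key : IsDiscreteValuationRing O ↔ IsIntegrallyClosed O ∧ ∃! P : Ideal O, P ≠ ⊥ ∧ P.IsPrime :=
    (IsDiscreteValuationRing.TFAE O hnf).out 0 3
  refine key.2 ⟨inferInstance, IsLocalRing.maximalIdeal O,
    ⟨fun h => hf0 (Ideal.mem_bot.1 (h ▸ hf)), inferInstance⟩, fun P hP => ?_⟩
  haveI := hP.2
  rcases Ring.krullDimLE_one_iff.1 ‹Ring.KrullDimLE 1 O› P inferInstance with h | h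
  · exact absurd (eq_bot_iff.2 (h.2 ⟨Ideal.isPrime_bot, le_refl _⟩ bot_le)) hP.1
  · exact IsLocalRing.eq_maximalIdeal h

/-- Integrally closed descends to the localisation at a prime, given enough denominators. -/
theorem mem_range_of_isIntegral {C B O L : Type u} [CommRing C] [CommRing B] [CommRing O] [CommRing L]
    [Algebra C B] [Algebra C O] [Algebra O L] [Algebra C L] [IsScalarTower C O L] (p : Ideal C) [p.IsPrime]
    [IsLocalization.AtPrime O p] (θ : B →ₐ[C] L)
    (hcl : ∀ b : B, IsIntegral C b → ∃ c, algebraMap C B c = b)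
    (hsurj : ∀ z : L, ∃ t : C, t ∉ p ∧ ∃ b, θ b = algebraMap C L t * z)
    (hker : ∀ b, θ b = 0 → ∃ q : C, q ∉ p ∧ algebraMap C B q * b = 0)
    (z : L) (hz : IsIntegral O z) : ∃ o : O, algebraMap O L o = z := by
  obtain ⟨⟨s, hs⟩, hsz⟩ := hz.exists_multiple_integral_of_isLocalization p.primeCompl
  have hsz' : IsIntegral C (algebraMap C L s * z) := by rwa [Submonoid.mk_smul, Algebra.smul_def] at hsz
  obtain ⟨t, ht, b, hb⟩ := hsurj (algebraMap C L s * z)
  obtain ⟨P, hP, hPb⟩ : IsIntegral C (θ b) := hb ▸ isIntegral_algebraMap.mul hsz'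
  have hPb' : θ (aeval b P) = 0 := by rw [← aeval_algHom_apply]; exact hPb
  obtain ⟨q, hq, hqb⟩ := hker _ hPb'
  have hint : IsIntegral C (algebraMap C B q * b) := by
    rcases Nat.eq_zero_or_pos P.natDegree with hn | hn
    · have h1 : P = 1 := eq_one_of_monic_natDegree_zero hP hn
      have : algebraMap C B q = 0 := by simpa [h1] using hqb
      rw [this, zero_mul]
      exact isIntegral_zero
    · refine ⟨P.scaleRoots q, (monic_scaleRoots_iff q).2 hP, ?_⟩
      rw [scaleRoots_eval₂_mul]
      obtain ⟨m, hm⟩ := Nat.exists_eq_add_of_le' hn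
      rw [hm, pow_succ, mul_assoc]
      show _ * (algebraMap C B q * aeval b P) = 0
      rw [hqb, mul_zero]
  obtain ⟨c, hc⟩ := hcl _ hint
  have hqts : q * (t * s) ∈ p.primeCompl := p.primeCompl.mul_mem hq (p.primeCompl.mul_mem ht hs)
  refine ⟨IsLocalization.mk' O c ⟨_, hqts⟩, ?_⟩
  have hu : IsUnit (algebraMap C L (q * (t * s))) := by
    rw [IsScalarTower.algebraMap_apply C O L]
    exact (IsLocalization.map_units O (⟨_, hqts⟩ : p.primeCompl)).map _
  refine hu.mul_right_cancel ?_
  rw [IsScalarTower.algebraMap_apply C O L, ← map_mul, IsLocalization.mk'_spec, ← IsScalarTower.algebraMap_apply,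
    ← θ.commutes c, hc, map_mul, θ.commutes, hb, ← IsScalarTower.algebraMap_apply C O L, map_mul, map_mul]
  ring

/-- A local ring of a one-dimensional reduced ring `C`, integrally closed in `B`, is a discrete valuation ring
at a point off which `C` and `B` agree. -/
theorem isDVR_of_chart (C B K O : Type u) [CommRing C] [CommRing B] [CommRing K] [CommRing O]
    [IsNoetherianRing C] [IsReduced C] [Ring.KrullDimLE 1 C]
    [Algebra C B] [Algebra B K] [Algebra C K] [IsScalarTower C B K] [Algebra C O]
    (p : Ideal C) [p.IsPrime] [IsLocalization.AtPrime O p] (f g : C) (hf : f ∈ p) (hg : g ∉ p)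
    (hmin : ∀ q ∈ minimalPrimes C, f ∉ q)
    [IsLocalization.Away (algebraMap C B g) K] [IsLocalization.Away (f * g) K]
    (hcl : ∀ b : B, IsIntegral C b → ∃ c, algebraMap C B c = b) :
    ∃ _ : IsDomain O, IsDiscreteValuationRing O := by
  haveI : IsLocalRing O := IsLocalization.AtPrime.isLocalRing O p
  haveI : IsNoetherianRing O := IsLocalization.isNoetherianRing p.primeCompl O inferInstance
  haveI : IsReduced O := isReduced_localizationPreserves p.primeCompl O inferInstance
  haveI : Ring.KrullDimLE 1 O := Ring.krullDimLE_iff.2 <| by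
    rw [IsLocalization.AtPrime.ringKrullDim_eq_height p O]
    exact (Ideal.height_le_ringKrullDim_of_isPrime (I := p)).trans (Ring.krullDimLE_iff.1 ‹_›)
  let f' := algebraMap C O f
  let L := Localization.Away f'
  have hfu : IsUnit (algebraMap C L f) := by
    rw [IsScalarTower.algebraMap_apply C O L]; exact IsLocalization.Away.algebraMap_isUnit f'
  have hgu : IsUnit (algebraMap C L g) := by
    rw [IsScalarTower.algebraMap_apply C O L]
    exact (IsLocalization.map_units O (⟨g, hg⟩ : p.primeCompl)).map _
  have hfK : IsUnit (algebraMap C K f) := by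
    have h := IsLocalization.Away.algebraMap_isUnit (S := K) (f * g)
    rw [map_mul] at h
    exact isUnit_of_mul_isUnit_left h
  have hu : ∀ y : Submonoid.powers (f * g), IsUnit (Algebra.ofId C L y) := by
    rintro ⟨_, n, rfl⟩
    show IsUnit (algebraMap C L ((f * g) ^ n))
    rw [map_pow, map_mul]
    exact (hfu.mul hgu).pow n
  let φ : K →ₐ[C] L := IsLocalization.liftAlgHom hu
  let θ : B →ₐ[C] L := φ.comp (IsScalarTower.toAlgHom C B K)
  refine isDVR_of_integrallyClosed_away O f' ((IsLocalization.AtPrime.to_map_mem_maximal_iff O p f).2 hf)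
    (fun q hq h => ?_) fun z hz => mem_range_of_isIntegral p θ hcl (fun z => ?_) (fun b hb => ?_) z hz
  · haveI := hq.1.1
    obtain ⟨r, hr, hrle⟩ := Ideal.exists_minimalPrimes_le (show (⊥ : Ideal C) ≤ q.comap (algebraMap C O) from bot_le)
    haveI := hr.1.1
    have hdisj : Disjoint (p.primeCompl : Set C) (r : Set C) := Set.disjoint_left.2 fun x hx hxr => by
      have h1 : algebraMap C O x ∈ q := hrle hxr
      exact hq.1.1.ne_top (Ideal.eq_top_of_isUnit_mem _ h1 (IsLocalization.map_units O (⟨x, hx⟩ : p.primeCompl)))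
    have hr' : (r.map (algebraMap C O)).IsPrime := IsLocalization.isPrime_of_isPrime_disjoint p.primeCompl O r hr.1.1 hdisj
    have hle : r.map (algebraMap C O) ≤ q := Ideal.map_le_iff_le_comap.2 hrle
    have h2 : f ∈ (r.map (algebraMap C O)).under C := (hq.2 ⟨hr', bot_le⟩ hle) h
    rw [IsLocalization.under_map_of_isPrime_disjoint p.primeCompl O hr.1.1 hdisj] at h2
    exact hmin r hr h2
  · obtain ⟨⟨o, _, n, rfl⟩, ho⟩ := IsLocalization.surj (Submonoid.powers f') z
    obtain ⟨⟨c, t, ht⟩, hc⟩ := IsLocalization.surj p.primeCompl o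
    change z * algebraMap O L (f' ^ n) = algebraMap O L o at ho
    change o * algebraMap C O t = algebraMap C O c at hc
    let w : K := algebraMap C K c * ↑(hfK.unit ^ n)⁻¹
    have hw : w * algebraMap C K (f ^ n) = algebraMap C K c := by
      have he : algebraMap C K (f ^ n) = ↑(hfK.unit ^ n) := by
        rw [map_pow, Units.val_pow_eq_pow_val, hfK.unit_spec]
      rw [he, mul_assoc, Units.inv_mul, mul_one]
    obtain ⟨⟨b, _, N, rfl⟩, hb⟩ := IsLocalization.surj (Submonoid.powers (algebraMap C B g)) w
    change w * algebraMap B K (algebraMap C B g ^ N) = algebraMap B K b at hb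
    refine ⟨g ^ N * t, p.primeCompl.mul_mem (p.primeCompl.pow_mem hg N) ht, b, ?_⟩
    refine (hfu.pow n).mul_right_cancel ?_
    have h1 : φ w * algebraMap C L f ^ n = algebraMap C L c := by
      have := congrArg φ hw
      rwa [map_mul, AlgHom.commutes, AlgHom.commutes, map_pow] at this
    have h2 : θ b = φ w * algebraMap C L g ^ N := by
      show φ (algebraMap B K b) = _
      rw [← hb, map_mul, ← map_pow (algebraMap C B), ← IsScalarTower.algebraMap_apply, AlgHom.commutes, map_pow]
    have h3 : algebraMap C L t * (z * algebraMap C L f ^ n) = algebraMap C L c := by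
      simp only [IsScalarTower.algebraMap_apply C O L]
      rw [← map_pow, ho, ← map_mul, mul_comm, hc]
    rw [h2, map_mul (algebraMap C L), map_pow (algebraMap C L)]
    linear_combination (algebraMap C L g ^ N) * h1 - (algebraMap C L g ^ N) * h3
  · obtain ⟨⟨c, _, n, rfl⟩, hc⟩ := IsLocalization.surj (Submonoid.powers (f * g)) (algebraMap B K b)
    change algebraMap B K b * algebraMap C K ((f * g) ^ n) = algebraMap C K c at hc
    have h1 : algebraMap C L c = 0 := by
      have := congrArg φ hc
      rwa [map_mul, AlgHom.commutes, AlgHom.commutes, show φ (algebraMap B K b) = θ b from rfl, hb, zero_mul,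
        eq_comm] at this
    rw [IsScalarTower.algebraMap_apply C O L] at h1
    obtain ⟨⟨_, m, rfl⟩, hm⟩ := (IsLocalization.map_eq_zero_iff (Submonoid.powers f') L _).1 h1
    change f' ^ m * algebraMap C O c = 0 at hm
    rw [← map_pow, ← map_mul] at hm
    obtain ⟨⟨t, ht⟩, htc⟩ := (IsLocalization.map_eq_zero_iff p.primeCompl O _).1 hm
    change t * (f ^ m * c) = 0 at htc
    have h2 : algebraMap B K (algebraMap C B t * b) = 0 := by
      rw [map_mul, ← IsScalarTower.algebraMap_apply]
      refine (((IsLocalization.Away.algebraMap_isUnit (S := K) (f * g)).pow n).mul (hfK.pow m)).mul_left_eq_zero.1 ?_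
      have h3 := congrArg (algebraMap C K) htc
      rw [map_zero, map_mul, map_mul, ← hc, map_pow, map_pow] at h3
      linear_combination h3
    obtain ⟨⟨_, N, rfl⟩, hN⟩ := (IsLocalization.map_eq_zero_iff (Submonoid.powers (algebraMap C B g)) K _).1 h2
    change algebraMap C B g ^ N * (algebraMap C B t * b) = 0 at hN
    refine ⟨g ^ N * t, p.primeCompl.mul_mem (p.primeCompl.pow_mem hg N) ht, ?_⟩
    rw [map_mul, map_pow, mul_assoc, hN]

end Groth.Agent.DimOneAmple
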