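import Groth.Agent.DimOneAmple.Completion
import Groth.Agent.DimOneAmple.NormRing
import Groth.Agent.NagataLib.Scheme
import Groth.Agent.NagataLib.IntClosure
import Mathlib.AlgebraicGeometry.Normalization

/-!
# Normalisation of a projective completion at the boundary
-/

set_option autoImplicit false
set_option backward.isDefEq.respectTransparency false
set_option backward.isDefEq.respectTransparency.types false
set_option linter.style.haveILetI false

universe u

open CategoryTheory CategoryTheory.Limits AlgebraicGeometry TopologicalSpace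

namespace Groth.Agent.DimOneAmple

variable {k : Type u} [Field k]

/-- Relative normalisation in a reduced scheme of finite type is finite over a scheme of finite type over a field. -/
theorem isFinite_fromNormalization_of_reduced {X Y : Scheme.{u}} (q : Y ⟶ Spec (CommRingCat.of k))
    [LocallyOfFiniteType q] (j : X ⟶ Y) [QuasiCompact j] [QuasiSeparated j] [LocallyOfFiniteType j] [IsReduced X] :
    IsFinite j.fromNormalization := by
  classical
  refine { finite_app := fun U hU => ?_ }
  letI := (j.app U).hom.toAlgebra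
  have hA := NagataLib.isNagata_affineOpen q ⟨U, hU⟩
  haveI : IsNoetherianRing Γ(Y, U) := hA.1
  obtain ⟨s, hsa, hsf, he⟩ := (Scheme.isBasis_affineOpens X).exists_finite_of_isCompact
    (j.isCompact_preimage hU.isCompact)
  let r : ∀ W : s, Γ(X, j ⁻¹ᵁ U) ⟶ Γ(X, (W.1 : X.Opens)) := fun W =>
    X.presheaf.map (homOfLE (he ▸ le_sSup W.2)).op
  letI a2 : ∀ W : s, Algebra Γ(Y, U) Γ(X, (W.1 : X.Opens)) := fun W => ((r W).hom.comp (j.app U).hom).toAlgebra
  haveI : Finite s := hsf.to_subtype
  haveI : ∀ W : s, Algebra.FiniteType Γ(Y, U) Γ(X, (W.1 : X.Opens)) := fun W => by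
    have h := j.finiteType_appLE hU (hsa W.2 : IsAffineOpen W.1) (he ▸ le_sSup W.2)
    exact RingHom.finiteType_algebraMap.1 h
  haveI : ∀ W : s, Module.Finite Γ(Y, U) (integralClosure Γ(Y, U) Γ(X, (W.1 : X.Opens))) := fun W =>
    NagataLib.finite_integralClosure_of_reduced hA _
  let ρ : ∀ W : s, Γ(X, j ⁻¹ᵁ U) →ₐ[Γ(Y, U)] Γ(X, (W.1 : X.Opens)) := fun W =>
    { (r W).hom with commutes' := fun _ => rfl }
  let i : integralClosure Γ(Y, U) Γ(X, j ⁻¹ᵁ U) →ₗ[Γ(Y, U)]
      ((W : s) → integralClosure Γ(Y, U) Γ(X, (W.1 : X.Opens))) :=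
    LinearMap.pi fun W => ((ρ W).comp (integralClosure _ _).val).toLinearMap.codRestrict
      (integralClosure _ _).toSubmodule fun z => z.2.map (ρ W)
  haveI : IsNoetherian Γ(Y, U) ((W : s) → integralClosure Γ(Y, U) Γ(X, (W.1 : X.Opens))) :=
    isNoetherian_of_isNoetherianRing_of_finite _ _
  haveI : Module.Finite Γ(Y, U) (integralClosure Γ(Y, U) Γ(X, j ⁻¹ᵁ U)) :=
    Module.Finite.of_injective i fun a b h => Subtype.ext <| by
      refine TopCat.Sheaf.eq_of_locally_eq' X.sheaf (fun W : s => (W.1 : X.Opens)) (j ⁻¹ᵁ U)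
        (fun W => homOfLE (he ▸ le_sSup W.2)) (he.le.trans (sSup_le fun W hW => le_iSup_of_le ⟨W, hW⟩ le_rfl))
        _ _ fun W => ?_
      exact congrArg Subtype.val (congrFun h W)
  rw [j.fromNormalization_app hU, CommRingCat.hom_comp]
  exact (RingHom.Finite.of_surjective _ (ConcreteCategory.bijective_of_isIso (j.normalizationObjIso hU).inv).2).comp
    (RingHom.finite_algebraMap.2 inferInstance)

theorem isLocalization_away_map {X : Scheme.{u}} {W V : X.Opens} (hc : IsCompact (W : Set X))
    (hq : IsQuasiSeparated (W : Set X)) (s : Γ(X, W)) (e : V = X.basicOpen s) (hle : V ≤ W) :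
    letI := (X.presheaf.map (homOfLE hle).op).hom.toAlgebra
    IsLocalization.Away s Γ(X, V) := by
  subst e
  exact isLocalization_basicOpen_of_qcqs hc hq s

theorem not_maximal_imp_isClosed {Y : Scheme.{u}} (q : Y ⟶ Spec (CommRingCat.of k)) [LocallyOfFiniteType q]
    (hdeg : ∀ z, VarDim.deg q z ≤ 1) {η z : Y} (h : η ⤳ z) (hne : η ≠ z) : IsClosed ({z} : Set Y) := by
  obtain ⟨c, hzc, hc⟩ := VarDim.exists_closed_specialization q z
  have h2 : VarDim.deg q z < VarDim.deg q η :=
    lt_of_not_ge fun h' => hne (VarDim.eq_of_specializes_of_deg_le q h h')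
  have h3 : z = c := VarDim.eq_of_specializes_of_deg_le q hzc (by have := hdeg η; omega)
  rwa [h3]

/-- The boundary local rings of a normalised completion are discrete valuation rings. -/
theorem isDVR_boundary {X Y : Scheme.{u}} (q : Y ⟶ Spec (CommRingCat.of k)) [LocallyOfFiniteType q]
    (j : X ⟶ Y) [QuasiCompact j] [IsSeparated j] [IsOpenImmersion j.toNormalization] [IsReduced X]
    [LocallyOfFiniteType (j.fromNormalization ≫ q)]
    (hdeg : ∀ z, VarDim.deg (j.fromNormalization ≫ q) z ≤ 1)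
    (hrange : ∀ η : j.normalization, (∀ y, y ⤳ η → y = η) → η ∈ Set.range j.toNormalization)
    (hfin : (Set.range j.toNormalization)ᶜ.Finite) {y : j.normalization} (hy : y ∉ Set.range j.toNormalization) :
    ∃ _ : IsDomain (j.normalization.presheaf.stalk y), IsDiscreteValuationRing (j.normalization.presheaf.stalk y) := by
  classical
  obtain ⟨U, hU, hyU, -⟩ := exists_isAffineOpen_mem_and_subset (x := j.fromNormalization y) (U := ⊤) trivial
  let U' : j.normalization.Opens := j.fromNormalization ⁻¹ᵁ U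
  have hU' : IsAffineOpen U' := hU.preimage j.fromNormalization
  haveI : IsLocallyNoetherian j.normalization := LocallyOfFiniteType.isLocallyNoetherian (j.fromNormalization ≫ q)
  haveI : IsNoetherianRing Γ(j.normalization, U') := IsLocallyNoetherian.component_noetherian ⟨U', hU'⟩
  have hcases : ∀ r : PrimeSpectrum Γ(j.normalization, U'),
      r.asIdeal ∈ minimalPrimes Γ(j.normalization, U') ∨ r.asIdeal.IsMaximal := by
    intro r
    by_cases hr : ∀ s : PrimeSpectrum Γ(j.normalization, U'), s.asIdeal ≤ r.asIdeal → s = r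
    · exact Or.inl ⟨⟨r.isPrime, bot_le⟩, fun I hI hle => (hr ⟨I, hI.1⟩ hle).symm.le.trans_eq rfl⟩
    · push Not at hr
      obtain ⟨s, hsr, hne⟩ := hr
      have h1 : hU'.fromSpec s ⤳ hU'.fromSpec r :=
        ((PrimeSpectrum.le_iff_specializes s r).1 hsr).map hU'.fromSpec.continuous
      have h2 := not_maximal_imp_isClosed _ hdeg h1 fun h => hne (hU'.fromSpec.isOpenEmbedding.injective h)
      have h3 : IsClosed ({r} : Set (PrimeSpectrum Γ(j.normalization, U'))) := by
        have := h2.preimage hU'.fromSpec.continuous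
        rwa [← Set.image_singleton, hU'.fromSpec.isOpenEmbedding.injective.preimage_image] at this
      exact Or.inr ((PrimeSpectrum.isClosed_singleton_iff_isMaximal r).1 h3)
  haveI : Ring.KrullDimLE 1 Γ(j.normalization, U') :=
    Ring.krullDimLE_one_iff.2 fun I hI => hcases ⟨I, hI⟩
  let p := hU'.primeIdealOf ⟨y, hyU⟩
  have hpy : hU'.fromSpec p = y := hU'.fromSpec_primeIdealOf ⟨y, hyU⟩
  have hmem : ∀ r : PrimeSpectrum Γ(j.normalization, U'),
      r.asIdeal ∈ minimalPrimes Γ(j.normalization, U') → hU'.fromSpec r ∈ Set.range j.toNormalization := by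
    intro r hr
    refine hrange _ fun z hz => ?_
    obtain ⟨s, rfl⟩ : z ∈ Set.range hU'.fromSpec :=
      hz.mem_open hU'.fromSpec.isOpenEmbedding.isOpen_range ⟨r, rfl⟩
    have h1 : s.asIdeal ≤ r.asIdeal :=
      (PrimeSpectrum.le_iff_specializes s r).2 (hU'.fromSpec.isOpenEmbedding.isInducing.specializes_iff.1 hz)
    exact congrArg _ (PrimeSpectrum.ext (le_antisymm h1 (hr.2 ⟨s.isPrime, bot_le⟩ h1)))
  have hpmin : p.asIdeal ∉ minimalPrimes Γ(j.normalization, U') := fun h => hy (hpy ▸ hmem p h)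
  obtain ⟨f, hfp, hf⟩ : ∃ f ∈ p.asIdeal, ∀ r ∈ minimalPrimes Γ(j.normalization, U'), f ∉ r := by
    by_contra h
    push Not at h
    have hm := minimalPrimes.finite_of_isNoetherianRing Γ(j.normalization, U')
    obtain ⟨r, hr, hpr⟩ := (Ideal.subset_union_prime (s := hm.toFinset) (f := id) ⊥ ⊥
      fun r hr _ _ => (hm.mem_toFinset.1 hr).1.1).1
      (fun x hx => by
        obtain ⟨r, hr, hxr⟩ := h x hx
        exact Set.mem_biUnion (hm.mem_toFinset.2 hr) hxr)
    have hr := hm.mem_toFinset.1 hr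
    exact hpmin (by rwa [le_antisymm (hr.2 ⟨p.isPrime, bot_le⟩ hpr) hpr] at hr)
  let T : Set (PrimeSpectrum Γ(j.normalization, U')) :=
    {r | (f ∈ r.asIdeal ∨ hU'.fromSpec r ∉ Set.range j.toNormalization) ∧ r ≠ p}
  have hTmax : ∀ r, (f ∈ r.asIdeal ∨ hU'.fromSpec r ∉ Set.range j.toNormalization) → r.asIdeal.IsMaximal :=
    fun r hr => (hcases r).resolve_left fun h => hr.elim (hf _ h) fun h' => h' (hmem r h)
  have hTfin : T.Finite := by
    have hfin1 : {r : PrimeSpectrum Γ(j.normalization, U') | f ∈ r.asIdeal}.Finite := by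
      refine Set.Finite.subset (((Ideal.span {f}).finite_minimalPrimes_of_isNoetherianRing _).preimage
        (fun _ _ _ _ => PrimeSpectrum.ext)) fun r hr => ?_
      refine ⟨⟨r.isPrime, (Ideal.span_singleton_le_iff_mem _).2 hr⟩, fun I hI hle => ?_⟩
      have hI' := hTmax ⟨I, hI.1⟩ (Or.inl ((Ideal.span_singleton_le_iff_mem _).1 hI.2))
      exact (hI'.eq_of_le r.isPrime.ne_top hle).symm.le
    have hfin2 : {r : PrimeSpectrum Γ(j.normalization, U') | hU'.fromSpec r ∉ Set.range j.toNormalization}.Finite :=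
      hfin.preimage hU'.fromSpec.isOpenEmbedding.injective.injOn
    exact (hfin1.union hfin2).subset fun r hr => hr.1
  obtain ⟨g, hgp, hg⟩ : ∃ g, g ∉ p.asIdeal ∧ ∀ r ∈ T, g ∈ r.asIdeal := by
    have h : ∀ r ∈ T, ∃ a ∈ r.asIdeal, a ∉ p.asIdeal := fun r hr => Set.not_subset.1 fun hle =>
      hr.2 (PrimeSpectrum.ext ((hTmax r hr.1).eq_of_le p.isPrime.ne_top hle))
    choose a ha hap using h
    refine ⟨∏ r ∈ hTfin.toFinset.attach, a r.1 (hTfin.mem_toFinset.1 r.2), fun h => ?_, fun r hr => ?_⟩
    · obtain ⟨r, -, hr⟩ := p.isPrime.prod_mem_iff.1 h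
      exact hap _ _ hr
    · exact r.isPrime.prod_mem_iff.2 ⟨⟨r, hTfin.mem_toFinset.2 hr⟩, Finset.mem_attach _ _, ha r hr⟩
  let D : j.normalization.Opens := j.normalization.basicOpen (f * g)
  have hkey : ∀ r : PrimeSpectrum Γ(j.normalization, U'),
      (g ∉ r.asIdeal → hU'.fromSpec r ∈ Set.range j.toNormalization → f ∉ r.asIdeal) ∧
      (g ∉ r.asIdeal → f ∉ r.asIdeal → hU'.fromSpec r ∈ Set.range j.toNormalization) := fun r =>
    ⟨fun hgr hr hfr => hgr (hg r ⟨Or.inl hfr, fun h => hy (hpy ▸ h ▸ hr)⟩),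
     fun hgr hfr => by_contra fun hr => hgr (hg r ⟨Or.inr hr, fun h => hfr (h ▸ hfp)⟩)⟩
  have hbo : ∀ (a : Γ(j.normalization, U')) (r : PrimeSpectrum Γ(j.normalization, U')),
      hU'.fromSpec r ∈ j.normalization.basicOpen a ↔ a ∉ r.asIdeal := fun a r => by
    show r ∈ hU'.fromSpec ⁻¹ᵁ (j.normalization.basicOpen a) ↔ _
    rw [hU'.fromSpec_preimage_basicOpen]
    exact PrimeSpectrum.mem_basicOpen a r
  have hsurj : ∀ z ∈ U', ∃ r, hU'.fromSpec r = z := fun z hz => by
    have : z ∈ Set.range hU'.fromSpec := hU'.range_fromSpec.symm ▸ hz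
    exact this
  have hD : D ≤ j.toNormalization.opensRange := fun z hz => by
    obtain ⟨r, rfl⟩ := hsurj z (j.normalization.basicOpen_le _ hz)
    have h := (hbo _ r).1 hz
    exact (hkey r).2 (fun h' => h (Ideal.mul_mem_left _ _ h')) (fun h' => h (Ideal.mul_mem_right _ _ h'))
  have hpre : j.toNormalization ⁻¹ᵁ D = j.toNormalization ⁻¹ᵁ j.normalization.basicOpen g := by
    show j.toNormalization ⁻¹ᵁ j.normalization.basicOpen (f * g) = _
    rw [Scheme.basicOpen_mul]
    refine le_antisymm (Scheme.Hom.preimage_mono _ inf_le_right) fun x hx => ⟨?_, hx⟩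
    have hx' : j.toNormalization x ∈ j.normalization.basicOpen g := hx
    obtain ⟨r, hr⟩ := hsurj _ (j.normalization.basicOpen_le _ hx')
    show j.toNormalization x ∈ _
    rw [← hr] at hx' ⊢
    exact (hbo f r).2 ((hkey r).1 ((hbo g r).1 hx') ⟨x, hr.symm⟩)
  have e : j ⁻¹ᵁ U = j.toNormalization ⁻¹ᵁ U' := by
    rw [← Scheme.Hom.comp_preimage, j.toNormalization_fromNormalization]
  let W := j ⁻¹ᵁ U
  let V := j.toNormalization ⁻¹ᵁ D
  have hVW : V ≤ W := (Scheme.Hom.preimage_mono _ (j.normalization.basicOpen_le _)).trans e.ge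
  letI aCB : Algebra Γ(j.normalization, U') Γ(X, W) := (j.toNormalization.appLE U' W e.le).hom.toAlgebra
  letI aBK : Algebra Γ(X, W) Γ(X, V) := (X.presheaf.map (homOfLE hVW).op).hom.toAlgebra
  letI aCK : Algebra Γ(j.normalization, U') Γ(X, V) :=
    (j.toNormalization.appLE U' V (hVW.trans e.le)).hom.toAlgebra
  haveI : IsScalarTower Γ(j.normalization, U') Γ(X, W) Γ(X, V) := IsScalarTower.of_algebraMap_eq' <| by
    simp only [RingHom.algebraMap_toAlgebra, ← CommRingCat.hom_comp, Scheme.Hom.appLE_map]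
  letI aCD : Algebra Γ(j.normalization, U') Γ(j.normalization, D) :=
    (j.normalization.presheaf.map (homOfLE (j.normalization.basicOpen_le _)).op).hom.toAlgebra
  haveI : IsLocalization.Away (f * g) Γ(j.normalization, D) := hU'.isLocalization_basicOpen (f * g)
  haveI : IsIso (j.toNormalization.app D) := j.toNormalization.isIso_app D hD
  let eDK : Γ(j.normalization, D) ≃ₐ[Γ(j.normalization, U')] Γ(X, V) :=
    AlgEquiv.ofRingEquiv (f := (asIso (j.toNormalization.app D)).commRingCatIsoToRingEquiv) fun a => by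
      show (j.normalization.presheaf.map _ ≫ j.toNormalization.app D).hom a = _
      rw [Scheme.Hom.app_eq_appLE, Scheme.Hom.map_appLE]
      rfl
  haveI : IsLocalization.Away (f * g) Γ(X, V) := IsLocalization.isLocalization_of_algEquiv _ eDK
  haveI : IsLocalization.Away (algebraMap Γ(j.normalization, U') Γ(X, W) g) Γ(X, V) :=
    isLocalization_away_map (j.isCompact_preimage hU.isCompact) (j.isQuasiSeparated_preimage hU.isQuasiSeparated)
      (algebraMap Γ(j.normalization, U') Γ(X, W) g) (by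
        show V = X.basicOpen ((j.toNormalization.appLE U' W e.le).hom g)
        rw [Scheme.basicOpen_appLE]
        show j.toNormalization ⁻¹ᵁ D = _
        rw [hpre]
        refine (inf_eq_right.2 ?_).symm
        exact (Scheme.Hom.preimage_mono _ (j.normalization.basicOpen_le g)).trans e.ge) hVW
  haveI : IsReduced Γ(j.normalization, U') := inferInstance
  letI : Algebra Γ(j.normalization, U') (j.normalization.presheaf.stalk y) :=
    j.normalization.presheaf.algebra_section_stalk ⟨y, hyU⟩
  haveI : IsLocalization.AtPrime (j.normalization.presheaf.stalk y) p.asIdeal := hU'.isLocalization_stalk ⟨y, hyU⟩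
  refine isDVR_of_chart _ Γ(X, W) Γ(X, V) _ p.asIdeal f g hfp hgp hf fun b hb => ?_
  letI aAC : Algebra Γ(Y, U) Γ(j.normalization, U') := (j.fromNormalization.app U).hom.toAlgebra
  letI aAB : Algebra Γ(Y, U) Γ(X, W) := (j.app U).hom.toAlgebra
  haveI : IsScalarTower Γ(Y, U) Γ(j.normalization, U') Γ(X, W) := IsScalarTower.of_algebraMap_eq' <| by
    simp only [RingHom.algebraMap_toAlgebra, ← CommRingCat.hom_comp]
    congr 1
    rw [Scheme.Hom.app_eq_appLE, Scheme.Hom.app_eq_appLE, Scheme.Hom.appLE_comp_appLE]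
    simp only [j.toNormalization_fromNormalization]
    rfl
  haveI : Algebra.IsIntegral Γ(Y, U) Γ(j.normalization, U') :=
    algebraMap_isIntegral_iff.1 (j.fromNormalization.isIntegral_app U hU)
  have hb' : IsIntegral Γ(Y, U) b := isIntegral_trans b hb
  refine ⟨(j.normalizationObjIso hU).inv ⟨b, hb'⟩, ?_⟩
  have := congr($(j.normalizationObjIso_hom_val hU).hom ((j.normalizationObjIso hU).inv ⟨b, hb'⟩))
  rw [CommRingCat.comp_apply, Iso.inv_hom_id_apply] at this
  exact this.symm

/-- Completion of a reduced curve with regular boundary. -/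
theorem exists_normal_completion {X : Scheme.{u}} (f : X ⟶ Spec (CommRingCat.of k)) [IsReduced X] [IsSeparated f]
    [LocallyOfFiniteType f] [QuasiCompact f] (hdim : topologicalKrullDim X ≤ 1) :
    ∃ (d : ℕ) (Y : Scheme.{u}) (c : Y ⟶ CohB1.ProjSpace d k) (j : X ⟶ Y), IsClosedImmersion c ∧ IsOpenImmersion j ∧
      j ≫ c ≫ CohB1.ProjSpace.toSpec d k = f ∧ Dense (Set.range j.base) ∧ IsSchemeTheoreticallyDominant j ∧
      (Set.range j.base)ᶜ.Finite ∧ ∀ y ∈ (Set.range j.base)ᶜ, IsClosed ({y} : Set Y) ∧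
        ∃ _ : IsDomain (Y.presheaf.stalk y), IsDiscreteValuationRing (Y.presheaf.stalk y) := by
  haveI : IsLocallyNoetherian X := LocallyOfFiniteType.isLocallyNoetherian f
  haveI : CompactSpace X := QuasiCompact.compactSpace_of_compactSpace f
  obtain ⟨d, Y, c, j, hc, hj, hjf, -, -, -, -⟩ := exists_completion f hdim
  haveI := hc
  haveI := hj
  haveI : IsProper (CohB1.ProjSpace.toSpec d k) := PnCoh.Chow.isProper_toSpec d _
  let q : Y ⟶ Spec (CommRingCat.of k) := c ≫ CohB1.ProjSpace.toSpec d k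
  haveI : IsProper q := inferInstanceAs (IsProper (c ≫ CohB1.ProjSpace.toSpec d k))
  haveI : CompactSpace Y := QuasiCompact.compactSpace_of_compactSpace q
  haveI : IsLocallyNoetherian Y := LocallyOfFiniteType.isLocallyNoetherian q
  haveI : QuasiCompact j := by
    haveI : QuasiCompact (j ≫ q) := by rw [show j ≫ q = f from hjf]; infer_instance
    exact QuasiCompact.of_comp j q
  haveI := isFinite_fromNormalization_of_reduced q j
  let π := j.fromNormalization
  let j' := j.toNormalization
  haveI : IsProper (π ≫ q) := inferInstance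
  haveI : CompactSpace j.normalization := QuasiCompact.compactSpace_of_compactSpace (π ≫ q)
  haveI : IsLocallyNoetherian j.normalization := LocallyOfFiniteType.isLocallyNoetherian (π ≫ q)
  haveI : AlgebraicGeometry.IsNoetherian j.normalization := {}
  haveI : IsImmersion (j' ≫ π) := by rw [show j' ≫ π = j from j.toNormalization_fromNormalization]; infer_instance
  haveI : IsImmersion j' := IsImmersion.of_comp j' π
  haveI : IsOpenImmersion j' := AlgSpLib.isOpenImmersion_of_ker_eq_bot j' j.ker_toNormalization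
  have hjq : j' ≫ π ≫ q = f := by
    rw [← Category.assoc, show j' ≫ π = j from j.toNormalization_fromNormalization]; exact hjf
  haveI : LocallyOfFiniteType (j' ≫ π ≫ q) := by rw [hjq]; infer_instance
  have hdense : Dense (Set.range j') := j.toNormalization.denseRange
  have hrange : ∀ η : j.normalization, (∀ y, y ⤳ η → y = η) → η ∈ Set.range j' := fun η hη =>
    VarDim.mem_range_of_maximal (j' ≫ π ≫ q) j' (by rw [hdense.closure_eq]; trivial) hη
  have hdeg : ∀ z, VarDim.deg (π ≫ q) z ≤ 1 := fun z => by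
    obtain ⟨η, hη, hmax⟩ := VarDim.exists_maximal_generalization (π ≫ q) z
    obtain ⟨x, hx⟩ := hrange η hmax
    refine (VarDim.deg_le_of_specializes (π ≫ q) hη).trans ?_
    rw [← hx]
    refine (VarDim.deg_map_le j' (π ≫ q) rfl x).trans ?_
    have h := le_iSup (fun z : X => ((VarDim.deg (j' ≫ π ≫ q) z : ℕ∞) : WithBot ℕ∞)) x
    rw [← VarDim.topologicalKrullDim_eq_iSup_deg (j' ≫ π ≫ q)] at h
    exact_mod_cast h.trans hdim
  have hcl : ∀ y ∈ (Set.range j')ᶜ, IsClosed ({y} : Set j.normalization) := fun y hy =>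
    closed_of_not_mem_range (π ≫ q) j' hdense hdim hy
  have hfin := finite_of_forall_isClosed j'.isOpenEmbedding.isOpen_range.isClosed_compl hcl
  have hM : CohB1.IsAmple (Twist.twist (CohB1.polyGrading d k) 1) := by
    classical
    refine AmpleX.isAmple_twist_one (CohB1.polyGrading d k)
      (Finset.image (fun i : Fin (d + 1) => (MvPolynomial.X i : MvPolynomial (Fin (d + 1)) k)) Finset.univ)
      (fun f hf => ?_) (top_le_iff.1 fun y _ => ?_)
    · obtain ⟨i, -, rfl⟩ := Finset.mem_image.1 hf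
      exact ProjPt.X_mem i
    · obtain ⟨i, hi⟩ := ProjUPX.cov_X y
      exact Opens.mem_iSup.2 ⟨⟨_, Finset.mem_image.2 ⟨i, Finset.mem_univ _, rfl⟩⟩, hi⟩
  haveI : IsAffineHom (π ≫ c) := inferInstance
  have hY := S11556.Aux.isAmple_pullback_of_isAffineHom (π ≫ c) hM
  obtain ⟨d', c', hc', hcf'⟩ := AmpleEmbed.exists_closedImmersion (π ≫ q) hY
  exact ⟨d', j.normalization, c', j', hc', inferInstance, by rw [hcf', hjq], hdense, ⟨j.ker_toNormalization⟩, hfin,
    fun y hy => ⟨hcl y hy, isDVR_boundary q j hdeg hrange hfin hy⟩⟩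

end Groth.Agent.DimOneAmple
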