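import Groth.Agent.DimOneAmple.Completion
import Groth.Agent.Lib.CurveAmple
import Groth.Agent.Lib.AVAmple
import Groth.Agent.S3572
import Groth.Agent.InvX.GenEpi

/-!
# An integral curve over a field is affine or projective
-/

set_option autoImplicit false
set_option backward.isDefEq.respectTransparency false
set_option backward.isDefEq.respectTransparency.types false
set_option linter.style.haveILetI false

universe u

open CategoryTheory CategoryTheory.Limits AlgebraicGeometry TopologicalSpace

namespace Groth.Agent.DimOneAmple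

variable {k : Type u} [Field k]

theorem locus_eq {X : Scheme.{u}} {L : X.Modules} (t : Γ(L, ⊤)) :
    H23.TrivBasic.locus t = AmpleX.locus t := by
  show CohB1.genLocus L (InvX.ofSect t) = _
  rw [AmpleX.genLocus_eq_locus, InvX.one_ofSect]

/-- In a proper integral curve the complement of a nonempty finite set of closed points is affine. -/
theorem isAffineOpen_of_ne_top {Y : Scheme.{u}} [Y.Over (Spec (CommRingCat.of k))]
    [IsProper (Y ↘ Spec (CommRingCat.of k))] [IsIntegral Y] (hdim : topologicalKrullDim Y = 1) (U : Y.Opens)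
    (hne : U ≠ ⊤) (hne' : genericPoint Y ∈ U) : IsAffineOpen U := by
  haveI := CurveCohLib.isNoetherian_of_proper (k := k) (X := Y)
  have hnc : ∀ y : Y, y ≠ genericPoint Y → closure {y} ∉ irreducibleComponents Y := fun y hy hmem => hy (by
    rw [irreducibleComponents_eq_singleton, Set.mem_singleton_iff] at hmem
    have : closure ({y} : Set Y) = closure {genericPoint Y} := hmem.trans (genericPoint_spec Y).def.symm
    exact (inseparable_iff_closure_eq.2 this).eq)
  have hcl : ∀ y : Y, y ∉ U → IsClosed ({y} : Set Y) := fun y hy =>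
    isClosed_of_not_generic hdim.le y (hnc y fun h => hy (h ▸ hne'))
  have hfin : ((U : Set Y)ᶜ).Finite := finite_of_forall_isClosed U.2.isClosed_compl hcl
  haveI : Finite ↥((U : Set Y)ᶜ) := hfin.to_subtype
  haveI : T1Space ↥((U : Set Y)ᶜ) := ⟨fun y => by
    have : ({y} : Set ↥((U : Set Y)ᶜ)) = Subtype.val ⁻¹' {y.1} := by ext z; simp [Subtype.ext_iff]
    rw [this]
    exact (hcl y.1 y.2).preimage continuous_subtype_val⟩
  obtain ⟨L, s, hL, hs⟩ := PicExtendPts.exists_section U inferInstance
    (fun y _ => ⟨inferInstance, (SchTop.ringKrullDim_stalk_le y).trans hdim.le⟩)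
  let t := InvX.one s
  have hlt : H23.TrivBasic.locus t = U := by
    rw [locus_eq, ← AmpleX.genLocus_eq_locus, hs]
  have ht0 : t ≠ 0 := fun h0 => by
    have h1 : genericPoint Y ∈ H23.TrivBasic.locus t := hlt ▸ hne'
    rw [h0, locus_eq] at h1
    obtain ⟨V, h, hyV, hV⟩ := AmpleX.mem_locus.1 h1
    rw [map_zero] at hV
    obtain ⟨c, hc⟩ := hV.exists_coord le_rfl (0 : Γ(L, V))
    have h10 := hV.coord_unique le_rfl (r := (1 : Γ(Y, V))) (r' := 0) (by simp)
    have h2 := congrArg (fun r : Γ(Y, V) => Y.basicOpen r) h10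
    simp only [Scheme.basicOpen_of_isUnit _ isUnit_one, Scheme.basicOpen_zero] at h2
    rw [h2] at hyV
    exact hyV.elim
  have hne'' : H23.TrivBasic.locus t ≠ ⊤ := hlt ▸ hne
  obtain ⟨j, hj⟩ := CurveAmple.exists_generated_pow k hdim hL ht0
  classical
  let P := CohB1.tensorPow L (j + 1)
  have hP : PicF.IsInvertible P := H23.PicMul.isInvertible_tensorPow hL _
  let T := AmpleX.powElt t (j + 1)
  have hT : H23.TrivBasic.locus T = U := by
    rw [locus_eq, AmpleX.locus_powElt hL t j, ← locus_eq, hlt]
  choose g hg using fun y : ↥((U : Set Y)ᶜ) => hj y.1 (by rw [hlt]; exact y.2)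
  haveI : Fintype ↥((U : Set Y)ᶜ) := Fintype.ofFinite _
  let e := Fintype.equivFin ↥((U : Set Y)ᶜ)
  let n := Fintype.card ↥((U : Set Y)ᶜ)
  let sec : Fin (n + 1) → Γ(P, ⊤) := Fin.cons T fun i => g (e.symm i)
  have hgen : ProjUP.GeneratedBy P sec := AVAmple.generatedBy_of_locus _ fun y => by
    by_cases hy : y ∈ U
    · exact ⟨0, by simp only [sec, Fin.cons_zero]; rw [hT]; exact hy⟩
    · refine ⟨(e ⟨y, hy⟩).succ, ?_⟩
      simp only [sec, Fin.cons_succ, Equiv.symm_apply_apply]
      exact hg ⟨y, hy⟩
  let f := Y ↘ Spec (CommRingCat.of k)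
  obtain ⟨r, hr, τ, hτ⟩ := S3572.result n f P hP sec hgen
  haveI hp : IsProper (CohB1.ProjSpace.toSpec n k) := PnCoh.Chow.isProper_toSpec n k
  haveI : IsProper r := by
    haveI : IsProper (r ≫ CohB1.ProjSpace.toSpec n k) := hr ▸ inferInstanceAs (IsProper f)
    exact IsProper.of_comp r (CohB1.ProjSpace.toSpec n k)
  let D := Proj.basicOpen (CohB1.polyGrading n k) (MvPolynomial.X (0 : Fin (n + 1)))
  have hpre : r ⁻¹ᵁ D = U :=
    (AmpleEmbed.preimage_chart r τ 0 ((hτ 0).trans (by simp [sec]))).trans hT
  haveI : IsAffine D.toScheme := Proj.isAffineOpen_basicOpen _ (MvPolynomial.X (0 : Fin (n + 1))) (ProjPt.X_mem 0) one_pos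
  haveI : JacobsonSpace (r ⁻¹ᵁ D).toScheme := LocallyOfFiniteType.jacobsonSpace ((r ⁻¹ᵁ D).ι ≫ f)
  haveI : LocallyQuasiFinite (r ∣_ D) := AVAmple.locallyQuasiFinite_of_closed (r ∣_ D) fun q hq => by
    have h0 : IsClosed ({D.ι q} : Set (CohB1.ProjSpace n k)) := by
      haveI : JacobsonSpace (Proj (CohB1.polyGrading n k)) :=
        LocallyOfFiniteType.jacobsonSpace (CohB1.ProjSpace.toSpec n k)
      exact mem_closedPoints_iff.1 ((D.ι.isOpenEmbedding.preimage_closedPoints).ge (mem_closedPoints_iff.2 hq))
    have hsub : r ⁻¹' {D.ι q} ⊆ (U : Set Y) := fun x hx => by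
      rw [← hpre]
      show r x ∈ D
      rw [show r x = D.ι q from hx]
      exact q.2
    have hgen' : genericPoint Y ∉ r ⁻¹' {D.ι q} := fun h => hne (eq_top_iff.2 fun y _ =>
      hsub ((genericPoint_specializes y).mem_closed (h0.preimage r.continuous) h))
    have hfin' : (r ⁻¹' {D.ι q}).Finite := finite_of_forall_isClosed (h0.preimage r.continuous) fun x hx =>
      isClosed_of_not_generic hdim.le x (hnc x fun h => hgen' (h ▸ hx))
    refine (hfin'.preimage (r ⁻¹ᵁ D).ι.isOpenEmbedding.injective.injOn).subset fun x hx => ?_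
    show r ((r ⁻¹ᵁ D).ι x) = D.ι q
    rw [← Scheme.Hom.comp_apply, ← morphismRestrict_ι, Scheme.Hom.comp_apply, show (r ∣_ D) x = q from hx]
    rfl
  haveI : IsFinite (r ∣_ D) := IsFinite.of_isProper_of_locallyQuasiFinite _
  rw [← hpre]
  exact isAffine_of_isAffineHom (r ∣_ D)

/-- A curve over a field is affine or admits a closed immersion into projective space. -/
theorem affine_or_projective {X : Scheme.{u}} (f : X ⟶ Spec (CommRingCat.of k)) [IsIntegral X] [IsSeparated f]
    [LocallyOfFiniteType f] [QuasiCompact f] (hdim : topologicalKrullDim X = 1) :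
    IsAffine X ∨ ∃ (d : ℕ) (c : X ⟶ CohB1.ProjSpace d k), IsClosedImmersion c ∧ c ≫ CohB1.ProjSpace.toSpec d k = f := by
  obtain ⟨d, Y, c, j, hc, hj, hjf, hdense, hdom, hfin, hcl⟩ := exists_completion f hdim.le
  by_cases hsurj : Function.Surjective j.base
  · haveI := (surjective_iff j).2 hsurj
    haveI : IsIso j := by
      rw [isIso_iff_isOpenImmersion_and_epi_base]
      exact ⟨hj, (TopCat.epi_iff_surjective _).2 hsurj⟩
    exact Or.inr ⟨d, j ≫ c, inferInstance, by rw [Category.assoc, hjf]⟩
  · left
    haveI : CompactSpace X := QuasiCompact.compactSpace_of_compactSpace f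
    letI : Y.Over (Spec (CommRingCat.of k)) := ⟨c ≫ CohB1.ProjSpace.toSpec d k⟩
    haveI : IsProper (CohB1.ProjSpace.toSpec d k) := PnCoh.Chow.isProper_toSpec d k
    haveI : IsProper (Y ↘ Spec (CommRingCat.of k)) := inferInstanceAs (IsProper (c ≫ CohB1.ProjSpace.toSpec d k))
    haveI : IsLocallyNoetherian Y := LocallyOfFiniteType.isLocallyNoetherian (Y ↘ Spec (CommRingCat.of k))
    haveI : QuasiCompact j := inferInstance
    haveI : IsReduced Y := IsSchemeTheoreticallyDominant.isReduced j
    haveI : IrreducibleSpace Y := by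
      have h1 : IsIrreducible (Set.range j.base) := by
        rw [← Set.image_univ]
        exact (IrreducibleSpace.isIrreducible_univ X).image _ j.continuous.continuousOn
      have h2 : IsIrreducible (Set.univ : Set Y) := hdense.closure_eq ▸ h1.closure
      exact { isPreirreducible_univ := h2.2, toNonempty := ⟨h2.1.some⟩ }
    haveI : IsIntegral Y := isIntegral_of_irreducibleSpace_of_isReduced Y
    have hgen : genericPoint Y ∈ j.opensRange := by
      have hx : j (genericPoint X) ∈ j.opensRange := ⟨_, rfl⟩
      exact (genericPoint_specializes _).mem_open j.opensRange.isOpen hx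
    have hdimY : topologicalKrullDim Y = 1 := by
      refine le_antisymm ?_ (hdim ▸ j.isOpenEmbedding.isInducing.topologicalKrullDim_le)
      refine H23.TopDim.dim_le fun p => ?_
      by_contra hp
      push_neg at hp
      rcases p with ⟨n, a, ha⟩
      have hn : 2 ≤ n := by exact_mod_cast hp
      let i0 : Fin (n + 1) := ⟨0, by omega⟩
      let i1 : Fin (n + 1) := ⟨1, by omega⟩
      let i2 : Fin (n + 1) := ⟨2, by omega⟩
      obtain ⟨ξ, hξ⟩ := QuasiSober.sober (a i1).isIrreducible (a i1).isClosed
      have h12 : a i1 < a i2 := ha ⟨1, by omega⟩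
      have h01 : a i0 < a i1 := ha ⟨0, by omega⟩
      by_cases hξr : ξ ∈ Set.range j.base
      · obtain ⟨x, rfl⟩ := hξr
        have hxc : closure {x} ∉ irreducibleComponents X := fun hmem => by
          rw [irreducibleComponents_eq_singleton, Set.mem_singleton_iff] at hmem
          have hx : x = genericPoint X := (inseparable_iff_closure_eq.2 (hmem.trans (genericPoint_spec X).def.symm)).eq
          have h3 : (a i1 : Set Y) = Set.univ := by
            rw [← hξ.def]
            refine Set.eq_univ_of_univ_subset ?_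
            rw [← hdense.closure_eq]
            refine closure_minimal ?_ isClosed_closure
            rintro _ ⟨w, rfl⟩
            exact specializes_iff_mem_closure.1 ((hx ▸ genericPoint_specializes w : x ⤳ w).map j.continuous)
          exact h12.not_ge fun z _ => (h3 ▸ Set.mem_univ z : z ∈ (a i1 : Set Y))
        have hclY : IsClosed ({j x} : Set Y) := by
          haveI : JacobsonSpace Y := LocallyOfFiniteType.jacobsonSpace (Y ↘ Spec (CommRingCat.of k))
          exact mem_closedPoints_iff.1 (j.isOpenEmbedding.preimage_closedPoints.ge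
            (mem_closedPoints_iff.2 (isClosed_of_not_generic hdim.le x hxc)))
        have h4 : (a i1 : Set Y) = {j x} := by rw [← hξ.def, hclY.closure_eq]
        refine h01.not_ge fun z hz => ?_
        obtain ⟨w, hw⟩ := (a i0).isIrreducible.1
        have hz' : z = j x := h4.le hz
        have hw' : w = j x := h4.le (h01.le hw)
        rw [hz', ← hw']; exact hw
      · have h4 : (a i1 : Set Y) = {ξ} := by rw [← hξ.def, (hcl ξ hξr).closure_eq]
        refine h01.not_ge fun z hz => ?_
        obtain ⟨w, hw⟩ := (a i0).isIrreducible.1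
        have hz' : z = ξ := h4.le hz
        have hw' : w = ξ := h4.le (h01.le hw)
        rw [hz', ← hw']; exact hw
    have hU := isAffineOpen_of_ne_top (k := k) hdimY j.opensRange
      (fun h => hsurj (fun y => (show y ∈ j.opensRange from h ▸ trivial))) hgen
    haveI : IsAffine j.opensRange.toScheme := hU
    exact IsAffine.of_isIso j.isoOpensRange.hom

end Groth.Agent.DimOneAmple
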