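import Groth.Agent.DimOneAmple.Curve
import Groth.Agent.ChevAffine.Main
import Groth.Agent.SGA1Q.SigmaFinite
import Groth.Agent.AmpleVan.Components
import Groth.Agent.H23.RedSub
import Mathlib.AlgebraicGeometry.IdealSheaf.IrreducibleComponent

/-!
# One-dimensional schemes without proper components are affine
-/

set_option autoImplicit false
set_option backward.isDefEq.respectTransparency false
set_option backward.isDefEq.respectTransparency.types false
set_option linter.style.haveILetI false

universe u

open CategoryTheory CategoryTheory.Limits AlgebraicGeometry TopologicalSpace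

namespace Groth.Agent.DimOneAmple

variable {k : Type u} [Field k]

theorem isAffine_of_dim_zero {X : Scheme.{u}} (f : X ⟶ Spec (CommRingCat.of k)) [LocallyOfFiniteType f]
    [QuasiCompact f] [IsIntegral X] (hd : topologicalKrullDim X ≤ 0) : IsAffine X := by
  haveI : CompactSpace X := QuasiCompact.compactSpace_of_compactSpace f
  have hz : VarDim.deg f (genericPoint X) = 0 := by
    have h := (VarDim.topologicalKrullDim_eq_deg_genericPoint f).symm.le.trans hd
    exact Nat.le_zero.1 (by exact_mod_cast h)
  have hall : ∀ x : X, x = genericPoint X := fun x =>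
    (VarDim.eq_of_specializes_of_deg_le f (genericPoint_specializes x) (by omega)).symm
  obtain ⟨V, hV, hxV, -⟩ := exists_isAffineOpen_mem_and_subset (x := genericPoint X) (U := ⊤) trivial
  have hVt : V = ⊤ := top_le_iff.1 fun x _ => hall x ▸ hxV
  subst hVt
  haveI : IsAffine (⊤ : X.Opens).toScheme := hV
  exact IsAffine.of_isIso X.topIso.inv

/-- A separated scheme of finite type and dimension at most one whose one-dimensional components are not proper
is affine. -/
theorem isAffine_of_no_proper_component {X : Scheme.{u}} (f : X ⟶ Spec (CommRingCat.of k)) [IsSeparated f]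
    [LocallyOfFiniteType f] [IsNoetherian X] (hdim : topologicalKrullDim X ≤ 1)
    (h : ∀ (C : Set X) (hC : C ∈ irreducibleComponents (X : Type u)), topologicalKrullDim C = 1 →
      ¬ IsProper ((X.irreducibleComponentIdeal C hC).radical.subschemeι ≫ f)) :
    IsAffine X := by
  classical
  haveI : Finite (irreducibleComponents (X : Type u)) :=
    (TopologicalSpace.NoetherianSpace.finite_irreducibleComponents (α := X)).to_subtype
  let I : irreducibleComponents (X : Type u) → X.IdealSheafData := fun C =>
    (X.irreducibleComponentIdeal C.1 C.2).radical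
  have hr : ∀ C, Set.range (I C).subschemeι = C.1 := fun C => by
    rw [Scheme.IdealSheafData.range_subschemeι, Scheme.IdealSheafData.support_radical]
    rfl
  have haff : ∀ C, IsAffine (I C).subscheme := fun C => by
    let e := (I C).subschemeι.isClosedEmbedding.isEmbedding.toHomeomorph.trans (Homeomorph.setCongr (hr C))
    haveI : IrreducibleSpace C.1 := Subtype.irreducibleSpace C.2.1
    haveI : IrreducibleSpace (I C).subscheme := e.symm.surjective.irreducibleSpace e.symm.continuous
    haveI : IsReduced (I C).subscheme := H23.RedSub.isReduced_subscheme fun U => Ideal.radical_isRadical _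
    haveI : IsIntegral (I C).subscheme := isIntegral_of_irreducibleSpace_of_isReduced _
    haveI : QuasiCompact ((I C).subschemeι ≫ f) := inferInstance
    have hle : topologicalKrullDim (I C).subscheme ≤ 1 :=
      (I C).subschemeι.isClosedEmbedding.isInducing.topologicalKrullDim_le.trans hdim
    by_cases hd : topologicalKrullDim C.1 = 1
    · have hd' : topologicalKrullDim (I C).subscheme = 1 := e.isHomeomorph.topologicalKrullDim_eq.trans hd
      refine (affine_or_projective ((I C).subschemeι ≫ f) hd').resolve_right ?_
      rintro ⟨d, c, hc, hcf⟩
      haveI := hc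
      haveI : IsProper (CohB1.ProjSpace.toSpec d k) := PnCoh.Chow.isProper_toSpec d _
      exact h C.1 C.2 hd (hcf ▸ inferInstance)
    · refine isAffine_of_dim_zero ((I C).subschemeι ≫ f) ?_
      have hlt : topologicalKrullDim (I C).subscheme < 1 :=
        lt_of_le_of_ne hle fun h1 => hd (e.isHomeomorph.topologicalKrullDim_eq.symm.trans h1)
      generalize topologicalKrullDim (I C).subscheme = d at hlt ⊢
      induction d with
      | bot => exact bot_le
      | coe e => exact WithBot.coe_le_coe.2 (ENat.lt_one_iff_eq_zero.1 (WithBot.coe_lt_coe.1 hlt)).le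
  haveI := haff
  let p : (∐ fun C => (I C).subscheme) ⟶ X := Sigma.desc fun C => (I C).subschemeι
  haveI : IsFinite p := SGA1Q.isFinite_sigmaDesc _ fun C => inferInstance
  haveI : Surjective p := by
    refine (surjective_iff p).2 fun x => ?_
    obtain ⟨y, hy⟩ : x ∈ Set.range (I ⟨_, irreducibleComponent_mem_irreducibleComponents x⟩).subschemeι :=
      (hr ⟨_, irreducibleComponent_mem_irreducibleComponents x⟩).symm ▸ mem_irreducibleComponent
    refine ⟨Sigma.ι (fun C => (I C).subscheme) ⟨_, irreducibleComponent_mem_irreducibleComponents x⟩ y, ?_⟩
    rw [← Scheme.Hom.comp_apply, Sigma.ι_desc]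
    exact hy
  exact ChevAffine.isAffine_of_finite_surjective p

end Groth.Agent.DimOneAmple
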