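import Groth.Agent.DimOneAmple.Ring
import Groth.Agent.PicExtendPts.Glue
import Groth.Agent.AmpleX.Sect
import Groth.Agent.CurveFin.Main

/-!
# A Noetherian separated scheme of dimension at most one has an ample invertible module

For a dense affine open `U` with finite complement inside an affine open `V` we find a function on `U`
with a pole at every branch at the missing points; it defines an invertible module with a section whose
locus is `U` and a section generating at the missing points.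
-/

set_option autoImplicit false
set_option backward.isDefEq.respectTransparency false
set_option backward.isDefEq.respectTransparency.types false
set_option linter.style.haveILetI false

universe u

open CategoryTheory AlgebraicGeometry TopologicalSpace Opposite
open Groth.Agent.AModX Groth.Agent.InvX
open Groth.Agent.H23.PicMul

namespace Groth.Agent.DimOneAmple

variable {X : Scheme.{u}} (U V : X.Opens)

/-- Functions on `V` supported on `U`. -/
def vanish : Ideal Γ(X, V) where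
  carrier := {j | X.basicOpen j ≤ U}
  add_mem' {a b} ha hb := (X.basicOpen_add_le a b).trans (sup_le ha hb)
  zero_mem' := by simp
  smul_mem' a j hj := by
    show X.basicOpen (a * j) ≤ U
    rw [Scheme.basicOpen_mul]
    exact inf_le_right.trans hj

variable {U V}

theorem mem_vanish {j : Γ(X, V)} : j ∈ vanish U V ↔ X.basicOpen j ≤ U := Iff.rfl

theorem exists_mem_vanish (hV : IsAffineOpen V) {x : X} (hxV : x ∈ V) (hxU : x ∈ U) :
    ∃ j ∈ vanish U V, x ∈ X.basicOpen j := by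
  obtain ⟨j, hj, hxj⟩ := hV.exists_basicOpen_le (V := U) ⟨x, hxU⟩ hxV
  exact ⟨j, hj, hxj⟩

theorem fromSpec_notMem (hV : IsAffineOpen V) (q : PrimeSpectrum Γ(X, V)) (h : vanish U V ≤ q.asIdeal) :
    hV.fromSpec q ∉ U := fun hU => by
  obtain ⟨j, hj, hxj⟩ := exists_mem_vanish hV
    (by rw [← SetLike.mem_coe, ← hV.range_fromSpec]; exact Set.mem_range_self q) hU
  have : q ∈ hV.fromSpec ⁻¹ᵁ X.basicOpen j := hxj
  rw [hV.fromSpec_preimage_basicOpen] at this
  exact this (h hj)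

theorem finite_primes (hV : IsAffineOpen V) (hfin : ((U : Set X)ᶜ).Finite) :
    {q : Ideal Γ(X, V) | q.IsPrime ∧ vanish U V ≤ q}.Finite := by
  refine ((hfin.preimage (f := hV.fromSpec) hV.fromSpec.isOpenEmbedding.injective.injOn).image
    PrimeSpectrum.asIdeal).subset ?_
  rintro q ⟨hq, hle⟩
  exact ⟨⟨q, hq⟩, fromSpec_notMem hV ⟨q, hq⟩ hle, rfl⟩

/-- Restriction to `U ⊓ V` as an algebra. -/
noncomputable abbrev algV : Algebra Γ(X, V) Γ(X, U ⊓ V) := (resR (inf_le_right : U ⊓ V ≤ V)).toAlgebra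

attribute [local instance] algV

theorem exists_pow_mul_eq (hV : IsAffineOpen V) (hUV : IsAffineOpen (U ⊓ V)) (j : Γ(X, V))
    (hj : j ∈ vanish U V) (r : Γ(X, U ⊓ V)) :
    ∃ (n : ℕ) (b : Γ(X, V)), resR (inf_le_right : U ⊓ V ≤ V) j ^ n * r = resR (inf_le_right : U ⊓ V ≤ V) b := by
  have hD : X.basicOpen j ≤ U ⊓ V := le_inf hj (X.basicOpen_le j)
  haveI := hV.isLocalization_basicOpen j
  obtain ⟨⟨b, s⟩, hb⟩ := IsLocalization.surj (Submonoid.powers j) (resR hD r)
  obtain ⟨n, hn⟩ := s.2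
  let j' := resR (inf_le_right : U ⊓ V ≤ V) j
  have hj' : X.basicOpen j' = X.basicOpen j := by
    show X.basicOpen ((X.presheaf.map (homOfLE inf_le_right).op).hom j) = _
    erw [Scheme.basicOpen_res]
    exact inf_eq_right.2 hD
  have h2 : resR ((hj'.le.trans hD) : X.basicOpen j' ≤ U ⊓ V) (j' ^ n * r - resR (inf_le_right : U ⊓ V ≤ V) b) = 0 := by
    have h3 : resR (X.basicOpen_le j) b = resR hD r * resR (X.basicOpen_le j) (j ^ n) := by
      rw [show j ^ n = (s : Γ(X, V)) from hn]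
      exact hb.symm
    have := congrArg (resR hj'.le) h3
    rw [map_mul, resR_resR, resR_resR, resR_resR] at this
    rw [map_sub, map_mul, ← map_pow, resR_resR, resR_resR, this, sub_eq_zero, mul_comm]
  haveI := hUV.isLocalization_basicOpen j'
  obtain ⟨⟨_, m, rfl⟩, hm⟩ := (IsLocalization.map_eq_zero_iff (Submonoid.powers j') Γ(X, X.basicOpen j') _).1 h2
  refine ⟨m + n, j ^ m * b, ?_⟩
  simp only [mul_sub] at hm
  rw [sub_eq_zero] at hm
  rw [map_mul, map_pow, ← hm, pow_add, mul_assoc]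

theorem map_vanish_eq_top (hV : IsAffineOpen V) (hUV : IsAffineOpen (U ⊓ V)) :
    (vanish U V).map (resR (inf_le_right : U ⊓ V ≤ V)) = ⊤ := by
  rw [Ideal.map, ← hUV.self_le_iSup_basicOpen_iff]
  rintro x ⟨hxU, hxV⟩
  obtain ⟨j, hj, hxj⟩ := exists_mem_vanish hV hxV hxU
  refine Opens.mem_iSup.2 ⟨⟨_, j, hj, rfl⟩, ?_⟩
  show x ∈ X.basicOpen ((X.presheaf.map (homOfLE inf_le_right).op).hom j)
  erw [Scheme.basicOpen_res]
  exact ⟨⟨hxU, hxV⟩, hxj⟩

variable [X.IsSeparated]

theorem crit_range (hU : IsAffineOpen U) (hV : IsAffineOpen V) (hUV : IsAffineOpen (U ⊓ V)) :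
    Crit (vanish U V) ((resR (inf_le_left : U ⊓ V ≤ U)).range : Set Γ(X, U ⊓ V)) := by
  intro L _ φ W hB hJ
  by_contra hA
  push_neg at hA
  let α : Γ(X, U) →+* W := (φ.comp (resR inf_le_left)).codRestrict W.toSubring fun a => hA _ ⟨a, rfl⟩
  let β : Γ(X, V) →+* W := (φ.comp (resR inf_le_right)).codRestrict W.toSubring hB
  let ι : Spec (CommRingCat.of L) ⟶ Spec (CommRingCat.of W) := Spec.map (CommRingCat.ofHom W.subtype)
  haveI : IsDominant ι := ⟨(PrimeSpectrum.denseRange_comap_iff_ker_le_nilRadical _).2 fun x hx => by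
    rw [show x = 0 from Subtype.ext hx]
    exact zero_mem _⟩
  have h : Spec.map (CommRingCat.ofHom α) ≫ hU.fromSpec = Spec.map (CommRingCat.ofHom β) ≫ hV.fromSpec := by
    refine ext_of_isDominant ι ?_
    rw [← Category.assoc, ← Category.assoc, ← Spec.map_comp, ← Spec.map_comp]
    have e1 : CommRingCat.ofHom α ≫ CommRingCat.ofHom W.subtype =
        X.presheaf.map (homOfLE (inf_le_left : U ⊓ V ≤ U)).op ≫ CommRingCat.ofHom φ := rfl
    have e2 : CommRingCat.ofHom β ≫ CommRingCat.ofHom W.subtype =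
        X.presheaf.map (homOfLE (inf_le_right : U ⊓ V ≤ V)).op ≫ CommRingCat.ofHom φ := rfl
    rw [e1, e2, Spec.map_comp, Spec.map_comp, Category.assoc, Category.assoc,
      hU.map_fromSpec hUV, hV.map_fromSpec hUV]
  let c : Spec (CommRingCat.of W) := IsLocalRing.closedPoint W
  refine fromSpec_notMem (U := U) hV (Spec.map (CommRingCat.ofHom β) c) (fun j hj => ?_) ?_
  · obtain ⟨hm, hmem⟩ := (W.mem_nonunits_iff_exists_mem_maximalIdeal).1 (hJ j hj)
    exact hmem
  · have := congrArg (fun f : Spec (CommRingCat.of W) ⟶ X => f c) h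
    simp only [Scheme.Hom.comp_apply] at this
    have h2 : hU.fromSpec (Spec.map (CommRingCat.ofHom α) c) ∈ (U : Set X) := by
      rw [← hU.range_fromSpec]; exact Set.mem_range_self _
    exact (congrArg (· ∈ (U : Set X)) this).mp h2

variable [AlgebraicGeometry.IsNoetherian X]

omit [X.IsSeparated] [AlgebraicGeometry.IsNoetherian X] in
theorem krullDimLE_of_isAffineOpen (hV : IsAffineOpen V) (hdim : topologicalKrullDim X ≤ 1) :
    Ring.KrullDimLE 1 Γ(X, V) := by
  rw [Ring.krullDimLE_iff]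
  refine le_trans ?_ hdim
  rw [← PrimeSpectrum.topologicalKrullDim_eq_ringKrullDim]
  exact hV.fromSpec.isOpenEmbedding.isInducing.topologicalKrullDim_le

/-- A function with a pole at each missing branch, with a function inverse to it near the missing points. -/
theorem exists_pole (hdim : topologicalKrullDim X ≤ 1) (hU : IsAffineOpen U) (hV : IsAffineOpen V)
    (hfin : ((U : Set X)ᶜ).Finite) (hS : ∀ x, x ∉ U → x ∈ V) :
    ∃ (V' : X.Opens) (a : Γ(X, U)) (z : Γ(X, V')), (∀ x, x ∉ U → x ∈ V') ∧ X.basicOpen z ≤ U ∧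
      resR (inf_le_right : U ⊓ V' ≤ V') z * resR (inf_le_left : U ⊓ V' ≤ U) a = 1 := by
  haveI := krullDimLE_of_isAffineOpen hV hdim
  haveI : IsNoetherianRing Γ(X, V) := IsLocallyNoetherian.component_noetherian ⟨V, hV⟩
  have hUV := hU.inf hV
  obtain ⟨w, ⟨a, rfl⟩, hw⟩ := exists_single (R := Γ(X, U ⊓ V)) (finite_primes hV hfin)
    (exists_pow_mul_eq hV hUV) (map_vanish_eq_top hV hUV) (resR inf_le_left).range (crit_range hU hV hUV)
  let w := resR (inf_le_left : U ⊓ V ≤ U) a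
  let e : Polynomial Γ(X, V) →ₐ[Γ(X, V)] Algebra.adjoin Γ(X, V) ({w} : Set Γ(X, U ⊓ V)) :=
    Polynomial.aeval ⟨w, Algebra.self_mem_adjoin_singleton _ w⟩
  have he : Function.Surjective e := by
    rintro ⟨y, hy⟩
    rw [Algebra.adjoin_singleton_eq_range_aeval] at hy
    obtain ⟨p, rfl⟩ := hy
    exact ⟨p, Subtype.ext (Polynomial.aeval_algHom_apply (Algebra.adjoin Γ(X, V) {w}).val _ p).symm⟩
  obtain ⟨p, hp, hp1⟩ : ∃ p ∈ (vanish U V).map Polynomial.C, Polynomial.aeval w p = 1 := by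
    have : ((vanish U V).map Polynomial.C).map e.toRingHom = ⊤ := by
      rw [Ideal.map_map, show e.toRingHom.comp Polynomial.C = algebraMap Γ(X, V) _ from e.comp_algebraMap]
      exact hw
    obtain ⟨p, hp, hp1⟩ := (Ideal.mem_map_iff_of_surjective e.toRingHom he).1
      ((Ideal.eq_top_iff_one _).1 this)
    refine ⟨p, hp, ?_⟩
    rw [show w = (Algebra.adjoin Γ(X, V) {w}).val ⟨w, Algebra.self_mem_adjoin_singleton _ w⟩ from rfl,
      Polynomial.aeval_algHom_apply]
    exact congrArg Subtype.val hp1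
  have hp0 : X.basicOpen (p.coeff 0) ≤ U := Ideal.mem_map_C_iff.1 hp 0
  let D := 1 - p.coeff 0
  let V' := X.basicOpen D
  have hV'V : V' ≤ V := X.basicOpen_le D
  have hV' : IsAffineOpen V' := hV.basicOpen D
  haveI : IsNoetherianRing Γ(X, V') := IsLocallyNoetherian.component_noetherian ⟨V', hV'⟩
  haveI := krullDimLE_of_isAffineOpen hV' hdim
  have hSV' : ∀ x, x ∉ U → x ∈ V' := fun x hx => by
    have hxV := hS x hx
    have h1 : x ∈ X.basicOpen (D + p.coeff 0) := by
      rw [sub_add_cancel, Scheme.basicOpen_of_isUnit _ isUnit_one]; exact hxV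
    exact (X.basicOpen_add_le D (p.coeff 0) h1).resolve_right fun h => hx (hp0 h)
  let π := resR hV'V
  let w' := resR (inf_le_left : U ⊓ V' ≤ U) a
  have hpM : p.map π ∈ (vanish U V').map Polynomial.C := Ideal.mem_map_C_iff.2 fun i => by
    rw [Polynomial.coeff_map]
    have hi : X.basicOpen (p.coeff i) ≤ U := Ideal.mem_map_C_iff.1 hp i
    show X.basicOpen ((X.presheaf.map (homOfLE hV'V).op).hom (p.coeff i)) ≤ U
    erw [Scheme.basicOpen_res]
    exact inf_le_right.trans hi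
  have hu : IsUnit (1 - (p.map π).coeff 0) := by
    rw [Polynomial.coeff_map, ← map_one π, ← map_sub]
    exact isUnit_resR hV'V D le_rfl
  have hev : Polynomial.aeval w' (p.map π) = 1 := by
    have h1 := congrArg (resR (inf_le_inf_left U hV'V)) hp1
    rw [map_one, Polynomial.aeval_def, Polynomial.hom_eval₂] at h1
    rw [Polynomial.aeval_def, Polynomial.eval₂_map, ← h1]
    congr 1
    · exact RingHom.ext fun b => (resR_resR _ _ _).trans (resR_resR _ _ _).symm
    · exact (resR_resR _ _ _).symm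
  obtain ⟨N, z, hz, hzN⟩ := exists_inverse_mem (R := Γ(X, U ⊓ V'))
    (exists_pow_mul_eq hV' (hU.inf hV')) w' _ hpM hu hev
  exact ⟨V', a ^ N, z, hSV', hz, by rw [map_pow]; exact hzN⟩

/-- An invertible module with a section of locus `U` and a section generating outside `U`. -/
theorem exists_sections (hdim : topologicalKrullDim X ≤ 1) (hU : IsAffineOpen U) (hV : IsAffineOpen V)
    (hfin : ((U : Set X)ᶜ).Finite) (hS : ∀ x, x ∉ U → x ∈ V) :
    ∃ (L : X.Modules) (a b : Γ(L, ⊤)), PicF.IsInvertible L ∧ AmpleX.locus a = U ∧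
      ∀ x, x ∉ U → x ∈ AmpleX.locus b := by
  obtain ⟨V', c, z, hV', hz, hzc⟩ := exists_pole hdim hU hV hfin hS
  let W : ULift.{u} Bool → X.Opens := fun i => if i.down then U else V'
  have hcov : iSup W = ⊤ := eq_top_iff.2 fun x _ => by
    by_cases hx : x ∈ U
    · exact Opens.mem_iSup.2 ⟨⟨true⟩, hx⟩
    · exact Opens.mem_iSup.2 ⟨⟨false⟩, hV' x hx⟩
  have hW : ∀ i j, i ≠ j → W i ⊓ W j ≤ U := by
    rintro ⟨⟨⟩⟩ ⟨⟨⟩⟩ h
    · exact absurd rfl h
    · exact inf_le_right
    · exact inf_le_left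
    · exact absurd rfl h
  let O := Coh.structureModule (↑U : Scheme.{u})
  have hpre : U.ι ⁻¹ᵁ V' ≤ U.ι ⁻¹ᵁ (U ⊓ V') := fun y hy => ⟨y.2, hy⟩
  have hu : IsUnit (resR hpre (U.ι.app (U ⊓ V') (resR (inf_le_left : U ⊓ V' ≤ U) c))) :=
    ((IsUnit.of_mul_eq_one_right _ hzc).map (U.ι.app (U ⊓ V')).hom).map _
  let e : ∀ i, Γ(O, U.ι ⁻¹ᵁ W i) := fun
    | ⟨true⟩ => show Γ(O, U.ι ⁻¹ᵁ U) from (1 : Γ(U.toScheme, U.ι ⁻¹ᵁ U))
    | ⟨false⟩ => show Γ(O, U.ι ⁻¹ᵁ V') from resR hpre (U.ι.app (U ⊓ V') (resR (inf_le_left : U ⊓ V' ≤ U) c))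
  have he : ∀ i, IsFrame (e i) := by
    rintro ⟨⟨⟩⟩
    · have h1 : resR hpre (U.ι.app (U ⊓ V') (resR (inf_le_left : U ⊓ V' ≤ U) c)) * 1 = _ := mul_one _
      have := (isFrame_one (X := U.toScheme) (U.ι ⁻¹ᵁ V')).isUnit_smul hu
      exact (congrArg (fun t : Γ(U.toScheme, U.ι ⁻¹ᵁ V') =>
        IsFrame (show Γ(O, U.ι ⁻¹ᵁ V') from t)) h1).mp this
    · exact isFrame_one _
  obtain ⟨L, F, hL, hF, -, hgF⟩ := PicExtendPts.exists_glue U W hcov hW e he
  let FU : Γ(L, U) := F ⟨true⟩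
  let FV : Γ(L, V') := F ⟨false⟩
  have hFU : IsFrame FU := hF ⟨true⟩
  have hFV : IsFrame FV := hF ⟨false⟩
  have hmul : resR (U.ι.preimage_mono (inf_le_left : U ⊓ V' ≤ U)) (1 : Γ(U.toScheme, U.ι ⁻¹ᵁ U)) =
      U.ι.app (U ⊓ V') (resR (inf_le_right : U ⊓ V' ≤ V') z) * resR (U.ι.preimage_mono (inf_le_right : U ⊓ V' ≤ V'))
        (resR hpre (U.ι.app (U ⊓ V') (resR (inf_le_left : U ⊓ V' ≤ U) c))) := by
    rw [map_one, resR_resR, resR_self, ← map_mul, hzc, map_one]
  have hFrel : res L (inf_le_left : U ⊓ V' ≤ U) FU =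
      resR (inf_le_right : U ⊓ V' ≤ V') z • res L (inf_le_right : U ⊓ V' ≤ V') FV :=
    hgF ⟨true⟩ ⟨false⟩ (fun h => Bool.noConfusion (congrArg ULift.down h)) _ hmul
  have hglue : ∀ (f : Γ(X, U)) (g : Γ(X, V')),
      resR (inf_le_left : U ⊓ V' ≤ U) f * resR (inf_le_right : U ⊓ V' ≤ V') z =
        resR (inf_le_right : U ⊓ V' ≤ V') g →
      ∃ t : Γ(L, ⊤), res L (le_top : U ≤ ⊤) t = f • FU ∧ res L (le_top : V' ≤ ⊤) t = g • FV := by
    intro f g hfg
    have hh : res L (inf_le_left : U ⊓ V' ≤ U) (f • FU) = res L inf_le_right (g • FV) := by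
      rw [res_smul, res_smul, hFrel, ← mul_smul, hfg]
    let sf : ∀ i, Γ(L, W i) := fun
      | ⟨true⟩ => show Γ(L, U) from f • FU
      | ⟨false⟩ => show Γ(L, V') from g • FV
    obtain ⟨t, ht, -⟩ := existsUnique_glue (M := L) (V := ⊤) W (fun _ => le_top)
      (fun p _ => Opens.mem_iSup.1 (by rw [hcov]; trivial)) sf (by
        rintro ⟨⟨⟩⟩ ⟨⟨⟩⟩
        · rfl
        · have := congrArg (res L (le_inf inf_le_right inf_le_left : V' ⊓ U ≤ U ⊓ V')) hh
          rw [res_res, res_res] at this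
          exact this.symm
        · exact hh
        · rfl)
    exact ⟨t, ht ⟨true⟩, ht ⟨false⟩⟩
  obtain ⟨a, haU, haV⟩ := hglue 1 z (by rw [map_one, one_mul])
  obtain ⟨b, -, hbV⟩ := hglue c 1 (by rw [mul_comm, map_one, hzc])
  refine ⟨L, a, b, hL, ?_, fun x hx => ?_⟩
  · refine le_antisymm (fun x hx => ?_) ?_
    · by_contra hxU
      have h1 := AmpleX.locus_inf a le_top hFV haV
      exact hxU (hz (h1.le ⟨hx, hV' x hxU⟩))
    · have h1 := AmpleX.locus_inf a le_top hFU haU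
      rw [Scheme.basicOpen_of_isUnit _ isUnit_one] at h1
      exact inf_eq_right.1 h1
  · have h1 := AmpleX.locus_inf b le_top hFV hbV
    rw [Scheme.basicOpen_of_isUnit _ isUnit_one] at h1
    exact inf_eq_right.1 h1 (hV' x hx)

omit [AlgebraicGeometry.IsNoetherian X] in
/-- The criterion for two affine opens. -/
theorem isAmple_of_sections [CompactSpace X] (hU : IsAffineOpen U) (hV : IsAffineOpen V)
    (hUV : ∀ x, x ∉ U → x ∈ V) {L M : X.Modules} (hL : PicF.IsInvertible L) (hM : PicF.IsInvertible M) {a b : Γ(L, ⊤)} {c d : Γ(M, ⊤)}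
    (ha : AmpleX.locus a = U) (hb : ∀ x, x ∉ U → x ∈ AmpleX.locus b)
    (hc : AmpleX.locus c = V) (hd : ∀ x, x ∉ V → x ∈ AmpleX.locus d) :
    CohB1.IsAmple (CohB1.tensorMod L M) := by
  have hLM := InvX.isInvertible_tensorMod hL hM
  refine ⟨hLM, inferInstance, fun x => ?_⟩
  obtain ⟨s, t, hx, haff⟩ : ∃ (s : Γ(L, ⊤)) (t : Γ(M, ⊤)),
      x ∈ AmpleX.locus s ⊓ AmpleX.locus t ∧ IsAffineOpen (AmpleX.locus s ⊓ AmpleX.locus t) := by
    by_cases hxU : x ∈ U
    · by_cases hxV : x ∈ V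
      · exact ⟨a, c, by rw [ha, hc]; exact ⟨hxU, hxV⟩, by rw [ha, hc]; exact hU.inf hV⟩
      · exact ⟨a, d, by rw [ha]; exact ⟨hxU, hd x hxV⟩, by
          rw [ha]; exact AmpleX.isAffineOpen_inf_locus hM hU d le_top⟩
    · refine ⟨b, c, ⟨hb x hxU, ?_⟩, ?_⟩
      · rw [hc]; exact hUV x hxU
      · rw [inf_comm, hc]; exact AmpleX.isAffineOpen_inf_locus hL hV b le_top
  obtain ⟨r, hr⟩ := AmpleX.exists_locus_cl (N := CohB1.tensorPow (CohB1.tensorMod L M) (0 + 1))
    (show PicF.cl (CohB1.tensorMod L M) = _ by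
      rw [H23.PicMul.cl_tensorPow, pow_one]) (InvX.tmul s t)
  refine ⟨0, InvX.ofSect r, ?_⟩
  rw [AmpleX.genLocus_eq_locus, InvX.one_ofSect, hr, AmpleX.locus_tmul hL hM]
  exact ⟨hx, haff⟩

end Groth.Agent.DimOneAmple
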