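import Mathlib

/-!
# Elements with a pole at finitely many given points of a one-dimensional ring

`R` plays the role of the functions on the complement of `V(J)` in `Spec B`. A set of elements of `R`
has a pole at every branch at `V(J)` (`Crit`) iff `J` generates the unit ideal in the subalgebra
generated by the set; we show that a single element suffices.
-/

set_option autoImplicit false
set_option linter.style.haveILetI false

universe u

open Polynomial

namespace Groth.Agent.DimOneAmple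

theorem minimal_or_isMaximal {B : Type u} [CommRing B] [Ring.KrullDimLE 1 B] (q : Ideal B) [q.IsPrime] :
    q ∈ minimalPrimes B ∨ q.IsMaximal :=
  Ring.krullDimLE_one_iff.1 inferInstance q inferInstance

variable {B R : Type u} [CommRing B] [CommRing R] [Algebra B R]

/-- No valuation ring centred in `V(J)` contains all of `G`. -/
def Crit (J : Ideal B) (G : Set R) : Prop :=
  ∀ (L : Type u) [Field L] (φ : R →+* L) (W : ValuationSubring L),
    (∀ b, φ (algebraMap B R b) ∈ W) → (∀ j ∈ J, φ (algebraMap B R j) ∈ W.nonunits) → ∃ g ∈ G, φ g ∉ W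

theorem map_eq_top_of_crit {J : Ideal B} {G : Set R} (h : Crit J G) :
    J.map (algebraMap B (Algebra.adjoin B G)) = ⊤ := by
  by_contra hne
  obtain ⟨Q, hQ, hJQ⟩ := Ideal.exists_le_maximal _ hne
  obtain ⟨P₀, hP₀, hP₀Q⟩ := Ideal.exists_minimalPrimes_le (bot_le : ⊥ ≤ Q)
  obtain ⟨P, hP, hPe⟩ := Ideal.exists_comap_eq_of_mem_minimalPrimes_of_injective
    (f := (Algebra.adjoin B G).val.toRingHom) Subtype.val_injective P₀ hP₀
  let φ : R →+* FractionRing (R ⧸ P) :=
    (algebraMap (R ⧸ P) (FractionRing (R ⧸ P))).comp (Ideal.Quotient.mk P)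
  let ψ := φ.comp (Algebra.adjoin B G).val.toRingHom
  have hker : RingHom.ker ψ ≤ Q := fun x hx => by
    apply hP₀Q
    rw [← hPe, Ideal.mem_comap, ← Ideal.Quotient.eq_zero_iff_mem]
    exact (IsFractionRing.injective (R ⧸ P) (FractionRing (R ⧸ P))) (hx.trans (map_zero _).symm)
  have hI : Q.map ψ.rangeRestrict ≠ ⊤ := fun ht => hQ.ne_top (by
    have := congrArg (Ideal.comap ψ.rangeRestrict) ht
    rw [Ideal.comap_map_of_surjective _ ψ.rangeRestrict_surjective, Ideal.comap_top] at this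
    refine eq_top_iff.2 (this.ge.trans (sup_le le_rfl fun x hx => hker ?_))
    exact congrArg Subtype.val (Ideal.mem_bot.1 hx))
  obtain ⟨V, hV, hI'⟩ := Ideal.image_subset_nonunits_valuationSubring _ hI
  obtain ⟨g, hg, hgV⟩ := h _ φ V (fun b => hV ⟨algebraMap B _ b, rfl⟩) fun j hj =>
    hI' ⟨_, Ideal.mem_map_of_mem _ (hJQ (Ideal.mem_map_of_mem _ hj)), rfl⟩
  exact hgV (hV ⟨⟨g, Algebra.subset_adjoin hg⟩, rfl⟩)

theorem crit_of_map_eq_top {J : Ideal B} {G : Set R}
    (h : J.map (algebraMap B (Algebra.adjoin B G)) = ⊤) : Crit J G := by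
  intro L _ φ W hB hJ
  by_contra hG
  push_neg at hG
  have hA : ∀ x ∈ Algebra.adjoin B G, φ x ∈ W := fun x hx => by
    induction hx using Algebra.adjoin_induction with
    | mem x hx => exact hG x hx
    | algebraMap b => exact hB b
    | add x y _ _ hx hy => rw [map_add]; exact add_mem hx hy
    | mul x y _ _ hx hy => rw [map_mul]; exact mul_mem hx hy
  let f : Algebra.adjoin B G →+* W :=
    (φ.comp (Algebra.adjoin B G).val.toRingHom).codRestrict W.toSubring fun x => hA x.1 x.2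
  have : J.map (algebraMap B (Algebra.adjoin B G)) ≤ (IsLocalRing.maximalIdeal W).comap f :=
    Ideal.map_le_iff_le_comap.2 fun j hj => by
      obtain ⟨hm, hmem⟩ := (W.mem_nonunits_iff_exists_mem_maximalIdeal).1 (hJ j hj)
      exact hmem
  rw [h, top_le_iff, Ideal.comap_eq_top_iff] at this
  exact (IsLocalRing.maximalIdeal.isMaximal W).ne_top this

theorem exists_finset_crit {J : Ideal B} {G : Set R} (h : Crit J G) :
    ∃ s : Finset R, (↑s : Set R) ⊆ G ∧ Crit J (↑s : Set R) := by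
  classical
  have h1 := map_eq_top_of_crit h
  rw [Ideal.eq_top_iff_one, Ideal.map, Ideal.span, Submodule.mem_span_image_iff_exists_fun] at h1
  obtain ⟨t, ht, c, hc⟩ := h1
  have hfin : ∀ x : Algebra.adjoin B G, ∃ s : Finset R, (↑s : Set R) ⊆ G ∧
      (x : R) ∈ Algebra.adjoin B (↑s : Set R) := by
    rintro ⟨x, hx⟩
    induction hx using Algebra.adjoin_induction with
    | mem x hx => exact ⟨{x}, by simpa using hx, Algebra.subset_adjoin (by simp)⟩
    | algebraMap b => exact ⟨∅, by simp, Subalgebra.algebraMap_mem _ b⟩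
    | add x y _ _ hx hy =>
      obtain ⟨s, hs, hxs⟩ := hx
      obtain ⟨r, hr, hyr⟩ := hy
      exact ⟨s ∪ r, by simp [hs, hr], add_mem (Algebra.adjoin_mono (by simp) hxs)
        (Algebra.adjoin_mono (by simp) hyr)⟩
    | mul x y _ _ hx hy =>
      obtain ⟨s, hs, hxs⟩ := hx
      obtain ⟨r, hr, hyr⟩ := hy
      exact ⟨s ∪ r, by simp [hs, hr], mul_mem (Algebra.adjoin_mono (by simp) hxs)
        (Algebra.adjoin_mono (by simp) hyr)⟩
  choose s hs hxs using hfin
  let S := Finset.univ.biUnion fun i => s (c i)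
  refine ⟨S, fun g hg => ?_, crit_of_map_eq_top ((Ideal.eq_top_iff_one _).2 ?_)⟩
  · obtain ⟨i, -, hi⟩ := Finset.mem_biUnion.1 hg
    exact hs _ hi
  let c' : _ → Algebra.adjoin B (↑S : Set R) := fun i =>
    ⟨_, Algebra.adjoin_mono (Finset.coe_subset.2 (Finset.subset_biUnion_of_mem (fun i => s (c i))
      (Finset.mem_univ i))) (hxs (c i))⟩
  have h2 : (1 : Algebra.adjoin B (↑S : Set R)) = ∑ i, c' i * algebraMap B _ i.1 := by
    refine Subtype.ext ?_
    have := congrArg Subtype.val hc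
    simp only [smul_eq_mul, OneMemClass.coe_one, AddSubmonoidClass.coe_finset_sum, MulMemClass.coe_mul,
      SubalgebraClass.coe_algebraMap] at this ⊢
    exact this.symm
  rw [h2]
  exact Ideal.sum_mem _ fun i _ => Ideal.mul_mem_left _ _ (Ideal.mem_map_of_mem _ (ht i.2))

/-- A root of unity is a root of at most one `1 + X + ⋯ + X^(ℓ-1)` with `ℓ` prime. -/
theorem finite_bad {F : Type u} [Field F] {g : F[X]} (hg : g ≠ 0) :
    {l : ℕ | l.Prime ∧ ¬ IsCoprime g (∑ i ∈ Finset.range l, X ^ i)}.Finite := by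
  classical
  let K := AlgebraicClosure F
  have h : ∀ l : {l : ℕ | l.Prime ∧ ¬ IsCoprime g (∑ i ∈ Finset.range l, X ^ i)},
      ∃ r : K, aeval r g = 0 ∧ ∑ i ∈ Finset.range l, r ^ i = 0 := by
    rintro ⟨l, hl, hcop⟩
    by_contra hr
    push_neg at hr
    refine hcop ((Polynomial.isCoprime_iff_aeval_ne_zero_of_isAlgClosed F K g _).2 fun r => ?_)
    by_cases h0 : aeval r g = 0
    · exact Or.inr (by simpa using hr r h0)
    · exact Or.inl h0
  choose r hr hr' using h
  have hinj : Function.Injective r := by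
    rintro ⟨l, hl⟩ ⟨m, hm⟩ he
    by_contra hne
    have hlm : Nat.Coprime l m := (Nat.coprime_primes hl.1 hm.1).2 fun e => hne (Subtype.ext e)
    have h1 := mul_geom_sum (r ⟨l, hl⟩) l
    have h2 := mul_geom_sum (r ⟨m, hm⟩) m
    have e1 := hr' ⟨l, hl⟩
    have e2 := hr' ⟨m, hm⟩
    rw [e1, mul_zero] at h1
    rw [e2, mul_zero, ← he] at h2
    have h3 := (pow_gcd_eq_one (a := r ⟨l, hl⟩)).2 ⟨sub_eq_zero.1 h1.symm, sub_eq_zero.1 h2.symm⟩
    rw [hlm, pow_one] at h3
    rw [← he] at e2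
    simp only [h3, one_pow, Finset.sum_const, Finset.card_range, nsmul_eq_mul, mul_one] at e1 e2
    refine CharP.ringChar_ne_one (R := K) (Nat.dvd_one.1 ?_)
    rw [← hlm]
    exact Nat.dvd_gcd ((ringChar.spec K l).1 e1) ((ringChar.spec K m).1 e2)
  have : ∀ l, r l ∈ (g.map (algebraMap F K)).roots.toFinset := fun l => by
    rw [Multiset.mem_toFinset, mem_roots (map_ne_zero hg), IsRoot, eval_map, ← aeval_def]
    exact hr l
  haveI : Finite {l : ℕ | l.Prime ∧ ¬ IsCoprime g (∑ i ∈ Finset.range l, X ^ i)} :=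
    Finite.of_injective (fun l => (⟨r l, this l⟩ : (g.map (algebraMap F K)).roots.toFinset))
      fun a b h => hinj (congrArg Subtype.val h)
  exact Set.toFinite _

/-- A fraction in a one-dimensional ring satisfies an equation with nonzero reduction. -/
theorem exists_poly [IsNoetherianRing B] [Ring.KrullDimLE 1 B] (p q : Ideal B) [p.IsPrime] [q.IsPrime]
    (hpq : p < q) (a b : B) (hb : b ∉ p) :
    ∃ G : B[X], G.map (Ideal.Quotient.mk q) ≠ 0 ∧
      ∀ (L : Type u) [Field L] (σ : B →+* L), RingHom.ker σ = p → eval₂ σ (σ a / σ b) G = 0 := by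
  let F := FractionRing (B ⧸ p)
  let θ : B →+* F := (algebraMap (B ⧸ p) F).comp (Ideal.Quotient.mk p)
  have hθ : ∀ x, θ x = 0 ↔ x ∈ p := fun x =>
    (map_eq_zero_iff _ (IsFractionRing.injective (B ⧸ p) F)).trans Ideal.Quotient.eq_zero_iff_mem
  let P₀ := RingHom.ker (eval₂RingHom θ (θ a / θ b))
  haveI : P₀.IsPrime := RingHom.ker_isPrime _
  suffices h : ¬ P₀ ≤ q.map C by
    obtain ⟨G, hG, hG'⟩ := SetLike.not_le_iff_exists.1 h
    refine ⟨G, fun h0 => hG' (Ideal.mem_map_C_iff.2 fun n => ?_), fun L _ σ hσ => ?_⟩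
    · rw [← Ideal.Quotient.eq_zero_iff_mem, ← coeff_map, h0, coeff_zero]
    · let τ : F →+* L := IsFractionRing.lift (A := B ⧸ p)
        (g := Ideal.Quotient.lift p σ fun x hx => (hσ.ge hx : σ x = 0))
        ((Ideal.injective_lift_iff _).2 hσ)
      have hτ : τ.comp θ = σ := RingHom.ext fun x =>
        (IsFractionRing.lift_algebraMap ((Ideal.injective_lift_iff _).2 hσ) _).trans (Ideal.Quotient.lift_mk p σ _)
      have := congrArg τ (show eval₂ θ (θ a / θ b) G = 0 from hG)
      rw [hom_eval₂, hτ, map_zero, map_div₀, ← RingHom.comp_apply τ θ, ← RingHom.comp_apply τ θ,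
        hτ] at this
      exact this
  intro hle
  have hmem : C b * X - C a ∈ P₀ := by
    have : θ b ≠ 0 := fun h => hb ((hθ b).1 h)
    simp [P₀, mul_div_cancel₀ _ this]
  have hP₀ : ∀ x, C x ∈ P₀ ↔ x ∈ p := fun x => by simp [P₀, hθ]
  have h1 : p.map C < P₀ := by
    refine lt_of_le_of_ne (Ideal.map_le_iff_le_comap.2 fun x hx => (hP₀ x).2 hx) fun he => ?_
    rw [← he, Ideal.mem_map_C_iff] at hmem
    exact hb (by simpa [coeff_C] using hmem 1)
  have h2 : P₀ < q.map C := lt_of_le_of_ne hle fun he => by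
    obtain ⟨x, hxq, hxp⟩ := SetLike.exists_of_lt hpq
    exact hxp ((hP₀ x).1 (he ▸ Ideal.mem_map_of_mem C hxq))
  obtain ⟨f, hfq, hf⟩ : ∃ f ∈ q, ∀ p' ∈ minimalPrimes B, f ∉ p' := by
    by_contra hcon
    push_neg at hcon
    obtain ⟨p', hp', hle'⟩ := (Ideal.subset_union_prime (s := (minimalPrimes.finite_of_isNoetherianRing B).toFinset)
      (f := id) ⊥ ⊥ (fun i hi _ _ => (Set.Finite.mem_toFinset _ |>.1 hi).1.1)).1 (show (q : Set B) ⊆ _ from fun x hx => by
        obtain ⟨p', hp', hx'⟩ := hcon x hx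
        exact Set.mem_iUnion₂.2 ⟨p', (Set.Finite.mem_toFinset _).2 hp', hx'⟩)
    have hp'' := (Set.Finite.mem_toFinset _).1 hp'
    exact (lt_of_lt_of_le hpq hle').not_ge (hp''.2 ⟨inferInstance, bot_le⟩ (hpq.le.trans hle'))
  have hQ : q.map C ∈ (Ideal.span {C f}).minimalPrimes := by
    refine ⟨⟨inferInstance, (Ideal.span_singleton_le_iff_mem _).2 (Ideal.mem_map_of_mem C hfq)⟩,
      fun Q' ⟨hQ', hfQ'⟩ hle' => Ideal.map_le_iff_le_comap.2 ?_⟩
    haveI := hQ'
    have hc : Q'.comap C ≤ q := fun x hx => by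
      simpa using Ideal.mem_map_C_iff.1 (hle' hx) 0
    rcases minimal_or_isMaximal (Q'.comap C) with hmin | hmax
    · exact absurd ((Ideal.span_singleton_le_iff_mem _).1 hfQ') (hf _ hmin)
    · exact (hmax.eq_of_le (Ideal.IsPrime.ne_top inferInstance) hc).ge
  have h3 := Ideal.height_le_one_of_isPrincipal_of_mem_minimalPrimes _ _ hQ
  have h4 := Ideal.height_strict_mono_of_isPrime h1
  have h5 := Ideal.height_strict_mono_of_isPrime h2
  have h6 : 1 ≤ P₀.height := Order.one_le_iff_pos.2 (bot_le.trans_lt h4)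
  exact (lt_of_le_of_lt h6 h5).not_ge h3

variable [IsNoetherianRing B] [Ring.KrullDimLE 1 B] {J : Ideal B}

/-- One element of the subring does the work of two. -/
theorem exists_merge (hfin : {q : Ideal B | q.IsPrime ∧ J ≤ q}.Finite)
    (hP1 : ∀ j ∈ J, ∀ r : R, ∃ (n : ℕ) (b : B), algebraMap B R j ^ n * r = algebraMap B R b)
    (hP2 : J.map (algebraMap B R) = ⊤) (A : Subring R) (u v : R) (hu : u ∈ A) (hv : v ∈ A) :
    ∃ w ∈ A, ∀ (L : Type u) [Field L] (φ : R →+* L) (W : ValuationSubring L),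
      (∀ b, φ (algebraMap B R b) ∈ W) → (∀ j ∈ J, φ (algebraMap B R j) ∈ W.nonunits) →
      φ w ∈ W → φ u ∈ W ∧ φ v ∈ W := by
  classical
  let I := {pq : Ideal B × Ideal B | pq.1.IsPrime ∧ (pq.2.IsPrime ∧ J ≤ pq.2) ∧ ¬ J ≤ pq.1 ∧ pq.1 < pq.2}
  have hI : I.Finite := by
    refine ((minimalPrimes.finite_of_isNoetherianRing B).prod hfin).subset fun pq hpq => ⟨?_, hpq.2.1⟩
    obtain ⟨hp, ⟨hq, -⟩, -, hlt⟩ := hpq
    rcases minimal_or_isMaximal pq.1 with h | h
    · exact h
    · exact absurd (h.eq_of_le hq.ne_top hlt.le) hlt.ne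
  have hG : ∀ pq : I, ∃ (bv bu : B) (G : B[X]), G.map (Ideal.Quotient.mk pq.1.2) ≠ 0 ∧
      ∀ (L : Type u) [Field L] (φ : R →+* L), RingHom.ker (φ.comp (algebraMap B R)) = pq.1.1 →
        φ v ≠ 0 → eval₂ (φ.comp (algebraMap B R)) (φ u / φ v) G = 0 := by
    rintro ⟨⟨p, q⟩, hp, ⟨hq, hJq⟩, hJp, hlt⟩
    obtain ⟨j, hjJ, hjp⟩ := SetLike.not_le_iff_exists.1 hJp
    obtain ⟨n, bu, hbu⟩ := hP1 j hjJ u
    obtain ⟨m, bv, hbv⟩ := hP1 j hjJ v
    haveI := hp
    haveI := hq
    by_cases hb : bv ∈ p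
    · refine ⟨bv, bu, 1, ?_, fun L _ φ hker h0 => absurd ?_ h0⟩
      · haveI : Nontrivial (B ⧸ q) := Ideal.Quotient.nontrivial_iff.2 hq.ne_top
        rw [Polynomial.map_one]; exact one_ne_zero
      · have h1 : φ (algebraMap B R bv) = 0 := by
          have : bv ∈ RingHom.ker (φ.comp (algebraMap B R)) := by rw [hker]; exact hb
          exact this
        rw [← hbv, map_mul, map_pow] at h1
        refine (mul_eq_zero.1 h1).resolve_left (pow_ne_zero _ fun h => hjp ?_)
        exact (congrArg (j ∈ ·) hker).mp h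
    · obtain ⟨G, hG, hG'⟩ := exists_poly p q hlt (bu * j ^ m) (bv * j ^ n)
        (fun h => (hp.mem_or_mem h).elim hb fun h => hjp (hp.mem_of_pow_mem _ h))
      refine ⟨bv, bu, G, hG, fun L _ φ hker h0 => ?_⟩
      have hj : φ (algebraMap B R j) ≠ 0 := fun h => hjp ((congrArg (j ∈ ·) hker).mp h)
      have := hG' L _ hker
      simp only [RingHom.comp_apply, map_mul, map_pow, ← hbu, ← hbv] at this
      convert this using 2
      field_simp
  choose bv bu G hG0 hG using hG
  have hbad : ∀ pq : I, ∃ Bad : Set ℕ, Bad.Finite ∧ ∀ l : ℕ, l.Prime → l ∉ Bad →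
      ∃ a b : B[X], ((a * G pq + b * ∑ i ∈ Finset.range l, X ^ i) - 1).map (Ideal.Quotient.mk pq.1.2) = 0 := by
    intro pq
    obtain ⟨hp, ⟨hq, hJq⟩, -, hlt⟩ := pq.2
    haveI := hq
    haveI := hp
    have hmax : pq.1.2.IsMaximal := (minimal_or_isMaximal pq.1.2).resolve_left
      fun h => hlt.not_ge (h.2 ⟨hp, bot_le⟩ hlt.le)
    letI : Field (B ⧸ pq.1.2) := Ideal.Quotient.field _
    refine ⟨_, finite_bad (hG0 pq), fun l hl hl' => ?_⟩
    obtain ⟨a, b, hab⟩ : IsCoprime ((G pq).map (Ideal.Quotient.mk pq.1.2))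
        (∑ i ∈ Finset.range l, X ^ i) := not_not.1 fun h => hl' ⟨hl, h⟩
    obtain ⟨a, rfl⟩ := map_surjective _ Ideal.Quotient.mk_surjective a
    obtain ⟨b, rfl⟩ := map_surjective _ Ideal.Quotient.mk_surjective b
    refine ⟨a, b, ?_⟩
    simp [Polynomial.map_sum, hab]
  choose Bad hBad hBad' using hbad
  haveI := hI.to_subtype
  obtain ⟨l, hl, hlB⟩ : ∃ l : ℕ, l.Prime ∧ l ∉ ⋃ pq, Bad pq := by
    obtain ⟨M, hM⟩ := (Set.finite_iUnion hBad).bddAbove
    obtain ⟨l, hlM, hl⟩ := Nat.exists_infinite_primes (M + 1)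
    exact ⟨l, hl, fun h => absurd (hM h) (by omega)⟩
  refine ⟨∑ i ∈ Finset.range l, u ^ i * v ^ (l - 1 - i),
    Subring.sum_mem _ fun i _ => mul_mem (pow_mem hu _) (pow_mem hv _), fun L _ φ W hB hJW hw => ?_⟩
  simp only [map_sum, map_mul, map_pow] at hw
  have hl1 : 1 ≤ l - 1 := Nat.le_sub_one_of_lt hl.one_lt
  have hroot : ∀ z : L, z ^ (l - 1) ∈ W → z ∈ W := fun z hz => by
    rcases W.mem_or_inv_mem z with h | h
    · exact h
    rcases eq_or_ne z 0 with rfl | h0
    · exact W.zero_mem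
    have : z = z ^ (l - 1) * z⁻¹ ^ (l - 1 - 1) := by
      rw [inv_pow, ← div_eq_mul_inv, eq_div_iff (pow_ne_zero _ h0), ← pow_succ']
      congr 1
      omega
    rw [this]
    exact mul_mem hz (pow_mem h _)
  by_cases hv0 : φ v = 0
  · refine ⟨hroot _ ?_, hv0 ▸ W.zero_mem⟩
    rwa [hv0, Finset.sum_eq_single (l - 1) (fun i hi hne => by
      rw [zero_pow (by have := Finset.mem_range.1 hi; omega), mul_zero])
      (fun h => absurd (Finset.mem_range.2 (by omega)) h), Nat.sub_self, pow_zero, mul_one] at hw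
  set x := φ u / φ v with hx
  have hux : φ u = x * φ v := by rw [hx, div_mul_cancel₀ _ hv0]
  by_cases hxW : x ∈ W
  · let σ : B →+* W := (φ.comp (algebraMap B R)).codRestrict W.toSubring hB
    let p := RingHom.ker (φ.comp (algebraMap B R))
    let q := (IsLocalRing.maximalIdeal W).comap σ
    haveI : p.IsPrime := RingHom.ker_isPrime _
    have hJq : J ≤ q := fun j hj => by
      obtain ⟨hm, hmem⟩ := (W.mem_nonunits_iff_exists_mem_maximalIdeal).1 (hJW j hj)
      exact hmem
    have hJp : ¬ J ≤ p := fun h => by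
      have : J.map (algebraMap B R) ≤ RingHom.ker φ := Ideal.map_le_iff_le_comap.2 h
      rw [hP2] at this
      exact (RingHom.ker_ne_top φ) (top_le_iff.1 this)
    have hpq : p < q := lt_of_le_of_ne (fun b hb => by
      rw [Ideal.mem_comap, show σ b = 0 from Subtype.ext hb]
      exact zero_mem _) fun he => hJp (he ▸ hJq)
    let pq : I := ⟨(p, q), inferInstance, ⟨inferInstance, hJq⟩, hJp, hpq⟩
    obtain ⟨a, b, hab⟩ := hBad' pq l hl fun h => hlB (Set.mem_iUnion.2 ⟨pq, h⟩)
    let y : W := ⟨x, hxW⟩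
    have hGy : eval₂ σ y (G pq) = 0 := Subtype.ext <| by
      have := hG pq L φ rfl hv0
      rw [show φ.comp (algebraMap B R) = W.subtype.comp σ from rfl] at this
      exact (hom_eval₂ _ _ W.subtype y).trans this
    have hker : ∀ g : B[X], g.map (Ideal.Quotient.mk q) = 0 → eval₂ σ y g ∈ IsLocalRing.maximalIdeal W := by
      intro g hg
      rw [eval₂_eq_sum_range]
      refine Ideal.sum_mem _ fun i _ => Ideal.mul_mem_right _ _ ?_
      have : g.coeff i ∈ q := by rw [← Ideal.Quotient.eq_zero_iff_mem, ← coeff_map, hg, coeff_zero]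
      exact this
    have hu' : IsUnit (∑ i ∈ Finset.range l, y ^ i) := by
      by_contra hnu
      have h1 := hker _ hab
      simp only [eval₂_sub, eval₂_add, eval₂_mul, hGy, mul_zero, zero_add, eval₂_one, eval₂_finset_sum,
        eval₂_X_pow] at h1
      exact (IsLocalRing.maximalIdeal.isMaximal W).ne_top ((Ideal.eq_top_iff_one _).2
        ((Submodule.sub_mem_iff_right _ (Ideal.mul_mem_left _ _ hnu)).1 h1))
    have hv' : φ v ^ (l - 1) ∈ W := by
      obtain ⟨c, hc⟩ := hu'.exists_left_inv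
      have he : (∑ i ∈ Finset.range l, φ u ^ i * φ v ^ (l - 1 - i)) =
          φ v ^ (l - 1) * ((∑ i ∈ Finset.range l, y ^ i : W) : L) := by
        push_cast
        rw [Finset.mul_sum]
        refine Finset.sum_congr rfl fun i hi => ?_
        rw [hux, mul_pow, show φ v ^ (l - 1) = φ v ^ i * φ v ^ (l - 1 - i) by
          rw [← pow_add]; congr 1; have := Finset.mem_range.1 hi; omega]
        ring
      rw [he] at hw
      have hc' := congrArg (fun z : W => (z : L)) hc
      simp only [MulMemClass.coe_mul, OneMemClass.coe_one] at hc'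
      have := mul_mem hw c.2
      rwa [mul_assoc, mul_comm _ (c : L), hc', mul_one] at this
    exact ⟨hux ▸ mul_mem hxW (hroot _ hv'), hroot _ hv'⟩
  · have hx0 : x ≠ 0 := fun h => hxW (h ▸ W.zero_mem)
    have hyN : x⁻¹ ∈ W.nonunits := W.mem_nonunits_iff_or.2 (Or.inr (by rwa [inv_inv]))
    obtain ⟨hy, hym⟩ := (W.mem_nonunits_iff_exists_mem_maximalIdeal).1 hyN
    let y : W := ⟨x⁻¹, hy⟩
    obtain ⟨l', rfl⟩ : ∃ l', l = l' + 1 := ⟨l - 1, by omega⟩
    have hu' : IsUnit (∑ i ∈ Finset.range (l' + 1), y ^ i) := by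
      by_contra hnu
      rw [Finset.sum_range_succ'] at hnu
      refine (IsLocalRing.maximalIdeal.isMaximal W).ne_top ((Ideal.eq_top_iff_one _).2 ?_)
      have h1 : (∑ i ∈ Finset.range l', y ^ (i + 1)) ∈ IsLocalRing.maximalIdeal W :=
        Ideal.sum_mem _ fun i _ => by rw [pow_succ]; exact Ideal.mul_mem_left _ _ hym
      have h2 := (Submodule.add_mem_iff_right _ h1).1 ((IsLocalRing.mem_maximalIdeal _).2 hnu)
      simpa using h2
    have he : (∑ i ∈ Finset.range (l' + 1), φ u ^ i * φ v ^ (l' + 1 - 1 - i)) =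
        φ u ^ l' * ((∑ i ∈ Finset.range (l' + 1), y ^ i : W) : L) := by
      push_cast
      rw [Finset.mul_sum, ← Finset.sum_range_reflect]
      refine Finset.sum_congr rfl fun i hi => ?_
      have hi' : i ≤ l' := Nat.lt_succ_iff.1 (Finset.mem_range.1 hi)
      rw [show l' + 1 - 1 - i = l' - i by omega, show l' - (l' - i) = i by omega,
        show φ v = x⁻¹ * φ u by rw [hux, ← mul_assoc, inv_mul_cancel₀ hx0, one_mul], mul_pow,
        show φ u ^ l' = φ u ^ (l' - i) * φ u ^ i by rw [← pow_add]; congr 1; omega]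
      ring
    rw [he] at hw
    obtain ⟨c, hc⟩ := hu'.exists_left_inv
    have hc' := congrArg (fun z : W => (z : L)) hc
    simp only [MulMemClass.coe_mul, OneMemClass.coe_one] at hc'
    have h1 := mul_mem hw c.2
    rw [mul_assoc, mul_comm _ (c : L), hc', mul_one] at h1
    have hu1 : φ u ∈ W := hroot _ h1
    refine ⟨hu1, ?_⟩
    rw [show φ v = x⁻¹ * φ u by rw [hux, ← mul_assoc, inv_mul_cancel₀ hx0, one_mul]]
    exact mul_mem hy hu1

/-- A single element with a pole at every branch. -/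
theorem exists_single (hfin : {q : Ideal B | q.IsPrime ∧ J ≤ q}.Finite)
    (hP1 : ∀ j ∈ J, ∀ r : R, ∃ (n : ℕ) (b : B), algebraMap B R j ^ n * r = algebraMap B R b)
    (hP2 : J.map (algebraMap B R) = ⊤) (A : Subring R) (h : Crit J (A : Set R)) :
    ∃ w ∈ A, J.map (algebraMap B (Algebra.adjoin B ({w} : Set R))) = ⊤ := by
  classical
  obtain ⟨s, hs, hc⟩ := exists_finset_crit h
  have key : ∀ t : Finset R, (↑t : Set R) ⊆ A → ∃ w ∈ A, ∀ (L : Type u) [Field L] (φ : R →+* L)
      (W : ValuationSubring L), (∀ b, φ (algebraMap B R b) ∈ W) →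
      (∀ j ∈ J, φ (algebraMap B R j) ∈ W.nonunits) → φ w ∈ W → ∀ g ∈ t, φ g ∈ W := by
    intro t
    induction t using Finset.induction with
    | empty => exact fun _ => ⟨0, zero_mem _, fun _ _ _ _ _ _ _ g hg => absurd hg (Finset.notMem_empty g)⟩
    | insert a t hat ih =>
      intro ht
      rw [Finset.coe_insert, Set.insert_subset_iff] at ht
      obtain ⟨w, hw, hw'⟩ := ih ht.2
      obtain ⟨w', hw'A, hm⟩ := exists_merge hfin hP1 hP2 A a w ht.1 hw
      refine ⟨w', hw'A, fun L _ φ W hB hJW hW g hg => ?_⟩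
      obtain ⟨h1, h2⟩ := hm L φ W hB hJW hW
      rcases Finset.mem_insert.1 hg with rfl | hg
      · exact h1
      · exact hw' L φ W hB hJW h2 g hg
  obtain ⟨w, hw, hw'⟩ := key s hs
  refine ⟨w, hw, map_eq_top_of_crit fun L _ φ W hB hJW => ⟨w, rfl, fun hW => ?_⟩⟩
  obtain ⟨g, hg, hgW⟩ := hc L φ W hB hJW
  exact hgW (hw' L φ W hB hJW hW g hg)

theorem radical_colon (hP1 : ∀ j ∈ J, ∀ r : R, ∃ (n : ℕ) (b : B), algebraMap B R j ^ n * r = algebraMap B R b)
    {ι : Type*} [Finite ι] (g : ι → R) :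
    ∃ T : ℕ, ∀ c ∈ J ^ T, ∀ i, algebraMap B R c * g i ∈ (algebraMap B R).range := by
  cases nonempty_fintype ι
  let K : Ideal B :=
    { carrier := {c | ∀ i, algebraMap B R c * g i ∈ (algebraMap B R).range}
      add_mem' := fun ha hb i => by rw [map_add, add_mul]; exact add_mem (ha i) (hb i)
      zero_mem' := fun i => by rw [map_zero, zero_mul]; exact zero_mem _
      smul_mem' := fun a c hc i => by
        rw [smul_eq_mul, map_mul, mul_assoc]; exact mul_mem ⟨a, rfl⟩ (hc i) }
  have hJ : J ≤ K.radical := fun j hj => by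
    choose n b hb using fun i => hP1 j hj (g i)
    refine Ideal.mem_radical_iff.2 ⟨Finset.univ.sup n, fun i => ?_⟩
    rw [← Nat.sub_add_cancel (Finset.le_sup (Finset.mem_univ i) : n i ≤ Finset.univ.sup n), map_pow,
      pow_add, mul_assoc, hb i]
    exact mul_mem (pow_mem (show algebraMap B R j ∈ (algebraMap B R).range from ⟨j, rfl⟩) _) ⟨b i, rfl⟩
  obtain ⟨T, hT⟩ := Ideal.exists_pow_le_of_le_radical_of_fg hJ (IsNoetherian.noetherian J)
  exact ⟨T, fun c hc => hT hc⟩

/-- A power of the inverse of a pole element is a function vanishing on `V(J)`. -/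
theorem exists_inverse_mem (hP1 : ∀ j ∈ J, ∀ r : R, ∃ (n : ℕ) (b : B), algebraMap B R j ^ n * r = algebraMap B R b)
    (w : R) (p : B[X]) (hp : p ∈ J.map C) (h0 : IsUnit (1 - p.coeff 0)) (h : aeval w p = 1) :
    ∃ (N : ℕ) (z : B), z ∈ J ∧ algebraMap B R z * w ^ N = 1 := by
  obtain ⟨n, hn⟩ : ∃ n, p.natDegree < n + 1 + 1 := ⟨p.natDegree, by omega⟩
  have hc : ∀ i, p.coeff i ∈ J := fun i => Ideal.mem_map_C_iff.1 hp i
  rw [aeval_eq_sum_range' hn, Finset.sum_range_succ'] at h
  simp only [Algebra.smul_def, pow_zero, mul_one] at h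
  obtain ⟨d, hd⟩ := h0.exists_left_inv
  let q : ℕ → B := fun i => d * p.coeff (i + 1)
  have h1 : (1 : R) = ∑ i ∈ Finset.range (n + 1), algebraMap B R (q i) * w ^ (i + 1) := by
    have := congrArg (algebraMap B R) hd
    rw [map_mul, map_sub, map_one] at this
    conv_lhs => rw [← this]
    conv_lhs => enter [2, 1]; rw [← h]
    rw [add_sub_cancel_right, Finset.mul_sum]
    refine Finset.sum_congr rfl fun i _ => ?_
    rw [show q i = d * p.coeff (i + 1) from rfl, map_mul, mul_assoc]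
  let z₀ : R := ∑ i ∈ Finset.range (n + 1), algebraMap B R (q i) * w ^ i
  have hwz : w * z₀ = 1 := by
    rw [h1, Finset.mul_sum]
    exact Finset.sum_congr rfl fun i _ => by rw [pow_succ]; ring
  let g : Fin (n + 1) → R := fun i => z₀ ^ (i : ℕ)
  have hz : z₀ ^ (n + 1) = ∑ i ∈ Finset.range (n + 1), algebraMap B R (q i) * z₀ ^ (n - i) := by
    conv_lhs => rw [← one_mul (z₀ ^ (n + 1)), h1, Finset.sum_mul]
    refine Finset.sum_congr rfl fun i hi => ?_
    have hi' : i ≤ n := Nat.lt_succ_iff.1 (Finset.mem_range.1 hi)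
    rw [show z₀ ^ (n + 1) = z₀ ^ (i + 1) * z₀ ^ (n - i) by rw [← pow_add]; congr 1; omega, mul_assoc,
      ← mul_assoc (w ^ (i + 1)), ← mul_pow, hwz, one_pow, one_mul]
  have hkey : ∀ t m, (n + 1) * t ≤ m → z₀ ^ m ∈ J ^ t • Submodule.span B (Set.range g) := by
    intro t m
    induction m using Nat.strong_induction_on generalizing t with
    | _ m ih =>
      intro htm
      by_cases hm : m ≤ n
      · obtain rfl : t = 0 := by
          rcases Nat.eq_zero_or_pos t with h | h
          · exact h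
          · have := Nat.le_mul_of_pos_right (n + 1) h
            omega
        rw [pow_zero, Ideal.one_eq_top, Submodule.top_smul]
        exact Submodule.subset_span ⟨⟨m, by omega⟩, rfl⟩
      · obtain ⟨m', rfl⟩ : ∃ m', m = (n + 1) + m' := ⟨m - (n + 1), by omega⟩
        rw [pow_add, hz, Finset.sum_mul]
        refine Submodule.sum_mem _ fun i hi => ?_
        rw [mul_assoc, ← pow_add, ← Algebra.smul_def]
        rcases t with - | t
        · rw [pow_zero, Ideal.one_eq_top, Submodule.top_smul]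
          refine Submodule.smul_mem _ _ ?_
          have := ih (n - i + m') (by omega) 0 (by omega)
          rwa [pow_zero, Ideal.one_eq_top, Submodule.top_smul] at this
        · rw [pow_succ', Submodule.mul_smul]
          refine Submodule.smul_mem_smul (J.mul_mem_left d (hc (i + 1))) (ih _ (by omega) t ?_)
          rw [Nat.mul_succ] at htm
          omega
  obtain ⟨T, hT⟩ := radical_colon hP1 g
  have hle : J ^ T • Submodule.span B (Set.range g) ≤ LinearMap.range (Algebra.linearMap B R) := by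
    refine Submodule.smul_le.2 fun c hc x hx => ?_
    induction hx using Submodule.span_induction with
    | mem x hx =>
      obtain ⟨i, rfl⟩ := hx
      obtain ⟨b, hb⟩ := hT c hc i
      exact ⟨b, by rw [Algebra.linearMap_apply, hb, Algebra.smul_def]⟩
    | zero => rw [smul_zero]; exact zero_mem _
    | add x y _ _ hx hy => rw [smul_add]; exact add_mem hx hy
    | smul a x _ hx => rw [smul_comm]; exact Submodule.smul_mem _ _ hx
  have hfin := hkey (T + 1) ((n + 1) * (T + 1)) le_rfl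
  rw [pow_succ', Submodule.mul_smul] at hfin
  have h2 : z₀ ^ ((n + 1) * (T + 1)) ∈ Submodule.map (Algebra.linearMap B R) (J • ⊤ : Submodule B B) := by
    rw [Submodule.map_smul'', ← LinearMap.range_eq_map]
    exact Submodule.smul_mono le_rfl hle hfin
  obtain ⟨z, hzJ, hze⟩ := h2
  rw [SetLike.mem_coe, smul_eq_mul, Ideal.mul_top] at hzJ
  refine ⟨(n + 1) * (T + 1), z, hzJ, ?_⟩
  rw [← Algebra.linearMap_apply, hze, ← mul_pow, mul_comm, hwz, one_pow]

end Groth.Agent.DimOneAmple
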